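import Cfsg.Agent.Lib.Fi24.Cert

/-!
# The action given by a table for twelve involutions

Commutation and braiding are read off rows; long relators go through tables of powers.
-/

set_option autoImplicit false

namespace Cfsg.Agent.Lib.Fi24.Cert

open Cfsg.Agent.Lib.CosetEnum (PTree force force_eq allBelow allBelow_iff)

/-- The letters are involutions at `i`; joined pairs braid and the others commute. `adjM` has one bit per
ordered pair. -/
noncomputable def pairsAt (N : ℕ) (T : PTree) (adjM : ℕ) (i : ℕ) : Bool :=
  force (row T i) fun r => allBelow 12 fun g =>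
    force (ent r g) fun a => Nat.blt a N && force (row T a) fun ra => Nat.beq (ent ra g) i &&
    (Nat.blt a i || allBelow g fun h =>
      force (ent r h) fun b => force (ent ra h) fun ah => force (row T b) fun rb => force (ent rb g) fun bg =>
      Bool.rec (Nat.beq ah bg) (Nat.beq (tget T ah g) (tget T bg h))
        (Nat.testBit adjM (Nat.add (Nat.mul 12 g) h)))

/-- `P` is the table of the word `l` at `i`. -/
noncomputable def wordAt (T P : PTree) (l : List ℕ) (i : ℕ) : Bool := Nat.beq (col19 P i) (scanT T l i)

/-- `Q` is the table of the `n`-th power of `P` at `i`. -/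
noncomputable def powAt (P Q : PTree) (n : ℕ) (i : ℕ) : Bool :=
  Nat.beq (col19 Q i) (Nat.rec i (fun _ c => force c (col19 P)) n)

theorem scanT_append (T : PTree) (u v : List ℕ) (i : ℕ) : scanT T (u ++ v) i = scanT T v (scanT T u i) := by
  induction u generalizing i with
  | nil => rfl
  | cons g u ih =>
    change force (tget T i g) (scanT T (u ++ v)) = scanT T v (force (tget T i g) (scanT T u))
    rw [force_eq, force_eq, ih]

theorem scanT_replicate (T : PTree) (l : List ℕ) (n i : ℕ) :
    scanT T (List.replicate n l).flatten i = (scanT T l)^[n] i := by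
  induction n generalizing i with
  | zero => rfl
  | succ n ih => rw [List.replicate_succ, List.flatten_cons, scanT_append, ih, Function.iterate_succ_apply]

theorem powAt_rec (P : PTree) (n i : ℕ) :
    (Nat.rec i (fun _ c => force c (col19 P)) n : ℕ) = (col19 P)^[n] i := by
  induction n with
  | zero => rfl
  | succ n ih =>
    change force (Nat.rec i (fun _ c => force c (col19 P)) n : ℕ) (col19 P) = _
    rw [ih, Function.iterate_succ_apply', force_eq]

variable {N : ℕ} {T : PTree} {adjM : ℕ}

theorem pairs_spec (h : allBelow N (pairsAt N T adjM) = true) {i g : ℕ} (hi : i < N) (hg : g < 12) :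
    tget T i g < N ∧ tget T (tget T i g) g = i ∧ (i ≤ tget T i g → ∀ k < g,
      if Nat.testBit adjM (12 * g + k) then
        tget T (tget T (tget T i g) k) g = tget T (tget T (tget T i k) g) k
      else tget T (tget T i g) k = tget T (tget T i k) g) := by
  have h1 := allBelow_iff.1 h i hi
  simp only [pairsAt, force_eq, allBelow_iff, Bool.and_eq_true, Bool.or_eq_true, Nat.blt_eq, Nat.beq_eq] at h1
  obtain ⟨ha, hb, hc⟩ := h1 g hg
  refine ⟨ha, hb, fun hle k hk => ?_⟩
  have h2 := hc.resolve_left (show ¬ tget T i g < i by omega) k hk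
  simp only [Nat.add_eq, Nat.mul_eq] at h2
  cases hbit : Nat.testBit adjM (12 * g + k) <;> rw [hbit] at h2 <;>
    simp only [Bool.false_eq_true, if_true, if_false] <;> exact Nat.eq_of_beq_eq_true h2

theorem pairs_lt (h : allBelow N (pairsAt N T adjM) = true) {i g : ℕ} (hi : i < N) (hg : g < 12) :
    tget T i g < N :=
  (pairs_spec h hi hg).1

/-- The pair relations at every point. -/
theorem pairs_all (h : allBelow N (pairsAt N T adjM) = true) {i g k : ℕ} (hi : i < N) (hg : g < 12)
    (hk : k < g) :
    if Nat.testBit adjM (12 * g + k) then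
      tget T (tget T (tget T i g) k) g = tget T (tget T (tget T i k) g) k
    else tget T (tget T i g) k = tget T (tget T i k) g := by
  obtain ⟨ha, hb, hc⟩ := pairs_spec h hi hg
  rcases Nat.lt_or_ge (tget T i g) i with hlt | hge
  swap
  · exact hc hge k hk
  have hk12 : k < 12 := by omega
  have key := (pairs_spec h ha hg).2.2 (by rw [hb]; omega) k hk
  rw [hb] at key
  have inv : ∀ {c x : ℕ}, c < N → x < 12 → tget T (tget T c x) x = c := fun hc hx => (pairs_spec h hc hx).2.1
  have lk : tget T i k < N := pairs_lt h hi hk12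
  have lak : tget T (tget T i g) k < N := pairs_lt h ha hk12
  split_ifs at key ⊢
  · have lkg : tget T (tget T i k) g < N := pairs_lt h lk hg
    have lakg : tget T (tget T (tget T i g) k) g < N := pairs_lt h lak hg
    have h1 := congrArg (tget T · k) key
    rw [inv lakg hk12] at h1
    exact h1.symm
  · have h1 := congrArg (tget T · g) key
    rw [inv lak hg] at h1
    exact h1.symm

/-- The permutations of the letters. -/
noncomputable def perm (h : allBelow N (pairsAt N T adjM) = true) (g : ℕ) : Equiv.Perm (Fin N) :=
  if hg : g < 12 then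
    { toFun := fun i => ⟨tget T i.1 g, (pairs_spec h i.2 hg).1⟩
      invFun := fun i => ⟨tget T i.1 g, (pairs_spec h i.2 hg).1⟩
      left_inv := fun i => Fin.ext (pairs_spec h i.2 hg).2.1
      right_inv := fun i => Fin.ext (pairs_spec h i.2 hg).2.1 }
  else 1

variable (h : allBelow N (pairsAt N T adjM) = true)

theorem perm_apply {g : ℕ} (hg : g < 12) (i : Fin N) : (perm h g i).1 = tget T i.1 g := by
  rw [perm, dif_pos hg]; rfl

theorem perm_sq {g : ℕ} (hg : g < 12) : perm h g * perm h g = 1 := by
  ext i
  rw [Equiv.Perm.mul_apply, perm_apply h hg, perm_apply h hg, (pairs_spec h i.2 hg).2.1]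
  rfl

theorem perm_inv {g : ℕ} (hg : g < 12) : (perm h g)⁻¹ = perm h g :=
  inv_eq_of_mul_eq_one_right (perm_sq h hg)

/-- The table scans a word as the inverse of its permutation. -/
theorem prod_inv_apply : ∀ l : List ℕ, (∀ g ∈ l, g < 12) → ∀ i : Fin N,
    (((l.map (perm h)).prod)⁻¹ i).1 = scanT T l i.1 := by
  intro l
  induction l with
  | nil => intro _ i; simp [scanT]
  | cons g l ih =>
    intro hl i
    have hg := hl g List.mem_cons_self
    rw [List.map_cons, List.prod_cons, mul_inv_rev, Equiv.Perm.mul_apply,
      ih (fun x hx => hl x (List.mem_cons_of_mem _ hx)), perm_inv h hg, perm_apply h hg]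
    change scanT T l (tget T i.1 g) = force (tget T i.1 g) (scanT T l)
    rw [force_eq]

theorem prod_eq_one {l : List ℕ} (hl : ∀ g ∈ l, g < 12) (hs : ∀ i < N, scanT T l i = i) :
    (l.map (perm h)).prod = 1 := by
  rw [← inv_eq_one]
  ext i
  rw [prod_inv_apply h l hl, hs i.1 i.2]
  rfl

include h in
theorem scanT_lt : ∀ l : List ℕ, (∀ g ∈ l, g < 12) → ∀ i < N, scanT T l i < N := fun l hl i hi => by
  rw [← prod_inv_apply h l hl ⟨i, hi⟩]; exact Fin.is_lt _

include h in
/-- A checked table of a word is that word. -/
theorem wordAt_spec {P : PTree} {l : List ℕ} (hP : allBelow N (wordAt T P l) = true) (hl : ∀ g ∈ l, g < 12)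
    {i : ℕ} (hi : i < N) : col19 P i = scanT T l i ∧ col19 P i < N := by
  have h1 := allBelow_iff.1 hP i hi
  simp only [wordAt, Nat.beq_eq] at h1
  exact ⟨h1, h1 ▸ scanT_lt h l hl i hi⟩

include h in
theorem iterate_spec {P : PTree} {l : List ℕ} (hP : allBelow N (wordAt T P l) = true) (hl : ∀ g ∈ l, g < 12)
    (n : ℕ) : ∀ {i : ℕ}, i < N → (col19 P)^[n] i = (scanT T l)^[n] i ∧ (col19 P)^[n] i < N := by
  induction n with
  | zero => intro i hi; exact ⟨rfl, hi⟩
  | succ n ih =>
    intro i hi
    rw [Function.iterate_succ_apply, Function.iterate_succ_apply]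
    obtain ⟨h1, h2⟩ := wordAt_spec h hP hl hi
    obtain ⟨h3, h4⟩ := ih h2
    exact ⟨by rw [h3, h1], h4⟩

theorem pair_rel {g k : ℕ} (hg : g < 12) (hk : k < g) :
    if Nat.testBit adjM (12 * g + k) then perm h g * perm h k * perm h g = perm h k * perm h g * perm h k
    else perm h g * perm h k = perm h k * perm h g := by
  have hk' : k < 12 := by omega
  split_ifs with hb <;> ext i
  · have := pairs_all h i.2 hg hk
    rw [if_pos hb] at this
    simp only [Equiv.Perm.mul_apply, perm_apply h hg, perm_apply h hk']
    exact this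
  · have := pairs_all h i.2 hg hk
    rw [if_neg hb] at this
    simp only [Equiv.Perm.mul_apply, perm_apply h hg, perm_apply h hk']
    exact this.symm

end Cfsg.Agent.Lib.Fi24.Cert
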