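import Cfsg.Agent.Lib.CosetEnum.Prim

/-!
# Compact certificates for an index in a group generated by twelve involutions

A table of an action on `N` points, a spanning tree, and for every further edge a relator that deduces it from
edges of smaller depth.
-/

set_option autoImplicit false

namespace Cfsg.Agent.Lib.Fi24.Cert

open Cfsg.Agent.Lib.CosetEnum (PTree force force_eq allBelow allBelow_iff)

/-- Row `i`: twelve images in fields of 19 bits, then twelve justifications in fields of 16 bits. -/
noncomputable def row (T : PTree) (i : ℕ) : ℕ :=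
  T.lookup (fun n i => Nat.shiftRight (Nat.mod n (Nat.shiftLeft 1 (Nat.mul 420 (Nat.succ (Nat.land i 255)))))
    (Nat.mul 420 (Nat.land i 255))) i

/-- Field `g` of a row. -/
noncomputable def ent (r g : ℕ) : ℕ := Nat.mod (Nat.shiftRight r (Nat.mul 19 g)) 524288

/-- The image of point `i` under letter `g`. -/
noncomputable def tget (T : PTree) (i g : ℕ) : ℕ := ent (row T i) g

/-- The justification in a row: code plus 320 times depth. -/
noncomputable def jent (r g : ℕ) : ℕ := Nat.mod (Nat.shiftRight r (Nat.add 228 (Nat.mul 16 g))) 65536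

/-- The justification of edge `(i, g)`. -/
noncomputable def jget (T : PTree) (i g : ℕ) : ℕ := jent (row T i) g

/-- A one-column table with fields of 19 bits. -/
noncomputable def col19 (P : PTree) (i : ℕ) : ℕ :=
  P.lookup (fun n i => Nat.mod (Nat.shiftRight n (Nat.mul 19 (Nat.land i 1023))) 524288) i

/-- The spanning tree: parent times 16 plus letter. -/
noncomputable def parent (P : PTree) (i : ℕ) : ℕ :=
  P.lookup (fun n i => Nat.mod (Nat.shiftRight n (Nat.mul 23 (Nat.land i 1023))) 8388608) i

/-- Follow a word. -/
noncomputable def scanT (T : PTree) (l : List ℕ) : ℕ → ℕ :=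
  List.rec (motive := fun _ => ℕ → ℕ) (fun i => i) (fun g _ ih i => force (tget T i g) ih) l

/-- A word as a number: base 16 digits, first letter lowest. -/
def code : List ℕ → ℕ
  | [] => 0
  | g :: l => g + 1 + 16 * code l

/-- The edges of the rest of a deduction have smaller depth, and it ends at `i`. -/
noncomputable def walk (T : PTree) (i d : ℕ) (fuel : ℕ) : ℕ → ℕ → Bool :=
  Nat.rec (motive := fun _ => ℕ → ℕ → Bool) (fun w c => Nat.beq w 0 && Nat.beq c i)
    (fun _ ih w c => Bool.rec
      (force (Nat.sub (Nat.mod w 16) 1) fun g => force (row T c) fun r =>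
        Nat.blt (Nat.div (jent r g) 320) d && force (ent r g) fun c' =>
        force (Nat.div w 16) fun w' => ih w' c')
      (Nat.beq c i) (Nat.beq w 0)) fuel

/-- The edge `(i, g)` is justified. -/
noncomputable def edgeAt (N : ℕ) (T P : PTree) (R : PTree) (nR : ℕ) (inH : ℕ → Bool) (i : ℕ) : Bool :=
  force (row T i) fun r => allBelow 12 fun g =>
    force (jent r g) fun e => force (Nat.mod e 320) fun k => force (ent r g) fun t =>
    Nat.blt t N &&
    ((Nat.beq k 0 && ((Nat.blt 0 t && Nat.beq (parent P t) (Nat.add (Nat.mul 16 i) g)) ||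
        (Nat.blt 0 i && Nat.beq (parent P i) (Nat.add (Nat.mul 16 t) g)))) ||
      (Nat.beq k 1 && Nat.beq i 0 && Nat.beq t 0 && inH g) ||
      (Nat.beq k 2 && Nat.blt t i && Nat.beq (tget T t g) i && Nat.ble (Nat.div (jget T t g) 320) (Nat.div e 320)) ||
      (Nat.ble 3 k && Nat.blt k (Nat.add nR 3) &&
        force (R.lookup (fun n _ => n) (Nat.sub k 3)) fun w =>
          Nat.beq (Nat.mod w 16) (Nat.add g 1) && walk T i (Nat.div e 320) 256 (Nat.div w 16) t))

/-- The spanning tree is one. -/
noncomputable def treeAt (T P : PTree) (i : ℕ) : Bool :=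
  Nat.beq i 0 || force (parent P i) fun p =>
    Nat.blt (Nat.div p 16) i && Nat.blt (Nat.mod p 16) 12 && Nat.beq (tget T (Nat.div p 16) (Nat.mod p 16)) i

section

variable {G : Type*} [Group G] (φ : ℕ → G) (P : PTree)

/-- Coset representatives along the spanning tree. -/
noncomputable def rep (v : ℕ) : G :=
  if 0 < v ∧ parent P v / 16 < v then rep (parent P v / 16) * φ (parent P v % 16) else 1
termination_by v
decreasing_by omega

theorem rep_zero : rep φ P 0 = 1 := by rw [rep, if_neg (by omega)]

variable {φ} {P} {N : ℕ} {T R : PTree} {nR : ℕ} {inH : ℕ → Bool} {H : Subgroup G} {rots : List (List ℕ)}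

/-- The letter `g` carries coset `i` to coset `T i g`. -/
def Edge (φ : ℕ → G) (P T : PTree) (H : Subgroup G) (i g : ℕ) : Prop :=
  rep φ P i * φ g * (rep φ P (tget T i g))⁻¹ ∈ H

theorem walk_sound {i d : ℕ} (h : ∀ c g, c < N → g < 12 → jget T c g / 320 < d → Edge φ P T H c g)
    (hT : ∀ c g, c < N → g < 12 → tget T c g < N) : ∀ (fuel : ℕ) (l : List ℕ) (c : ℕ),
      (∀ g ∈ l, g < 12) → c < N → walk T i d fuel (code l) c = true →
      rep φ P c * (l.map φ).prod * (rep φ P i)⁻¹ ∈ H := by
  intro fuel
  induction fuel with
  | zero =>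
    intro l c _ _ hw
    cases l with
    | nil =>
      change (Nat.beq 0 0 && Nat.beq c i) = true at hw
      simp only [Bool.and_eq_true, Nat.beq_eq] at hw
      simp [hw.2]
    | cons g l =>
      change (Nat.beq (code (g :: l)) 0 && Nat.beq c i) = true at hw
      simp [code] at hw
  | succ fuel ih =>
    intro l c hl hc hw
    cases l with
    | nil =>
      have : Nat.beq c i = true := hw
      rw [Nat.beq_eq] at this
      simp [this]
    | cons g l =>
      have hg := hl g List.mem_cons_self
      have hne : Nat.beq (code (g :: l)) 0 = false := by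
        rw [← Bool.not_eq_true, Nat.beq_eq, code]; omega
      change Bool.rec _ _ (Nat.beq (code (g :: l)) 0) = true at hw
      rw [hne] at hw
      simp only [force_eq, Bool.and_eq_true, Nat.blt_eq] at hw
      have e1 : Nat.sub (Nat.mod (code (g :: l)) 16) 1 = g := by
        show (code (g :: l)) % 16 - 1 = g
        rw [code]; omega
      have e2 : Nat.div (code (g :: l)) 16 = code l := by
        show code (g :: l) / 16 = code l
        rw [code]; omega
      rw [e1, e2] at hw
      change Nat.div (jget T c g) 320 < d ∧ _ at hw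
      rw [show ent (row T c) g = tget T c g from rfl] at hw
      have h1 := h c g hc hg hw.1
      have h2 := ih l _ (fun x hx => hl x (List.mem_cons_of_mem _ hx)) (hT c g hc hg)
        (by simpa only [walk, force_eq] using hw.2)
      have h3 := H.mul_mem h1 h2
      rw [List.map_cons, List.prod_cons]
      convert h3 using 1
      group

/-- All edges hold. -/
theorem edge_sound (hinvol : ∀ g < 12, φ g * φ g = 1) (hH : ∀ g < 12, inH g = true → φ g ∈ H)
    (hR : ∀ k < nR, R.lookup (fun n _ => n) k = code (rots.getD k []))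
    (hrots : ∀ l ∈ rots, (∀ g ∈ l, g < 12) ∧ (l.map φ).prod = 1)
    (hE : allBelow N (edgeAt N T P R nR inH) = true) (hP : allBelow N (treeAt T P) = true) :
    ∀ i g, i < N → g < 12 → tget T i g < N ∧ Edge φ P T H i g := by
  have hE0 : ∀ i g, i < N → g < 12 → _ := fun i g hi hg =>
    allBelow_iff.1 (allBelow_iff.1 (show allBelow N (fun i => allBelow 12 fun g =>
      force (jget T i g) fun e => force (Nat.mod e 320) fun k => force (tget T i g) fun t =>
      Nat.blt t N &&
      ((Nat.beq k 0 && ((Nat.blt 0 t && Nat.beq (parent P t) (Nat.add (Nat.mul 16 i) g)) ||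
          (Nat.blt 0 i && Nat.beq (parent P i) (Nat.add (Nat.mul 16 t) g)))) ||
        (Nat.beq k 1 && Nat.beq i 0 && Nat.beq t 0 && inH g) ||
        (Nat.beq k 2 && Nat.blt t i && Nat.beq (tget T t g) i && Nat.ble (Nat.div (jget T t g) 320) (Nat.div e 320)) ||
        (Nat.ble 3 k && Nat.blt k (Nat.add nR 3) &&
          force (R.lookup (fun n _ => n) (Nat.sub k 3)) fun w =>
            Nat.beq (Nat.mod w 16) (Nat.add g 1) && walk T i (Nat.div e 320) 256 (Nat.div w 16) t))) = true from by
        rw [show (edgeAt N T P R nR inH) = _ from funext fun i => by rw [edgeAt, force_eq]] at hE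
        exact hE) i hi) g hg
  have hE' := hE0
  simp only [force_eq, Bool.and_eq_true, Bool.or_eq_true, Nat.blt_eq, Nat.beq_eq, Nat.ble_eq, Nat.add_eq,
    Nat.mul_eq] at hE'
  have hT : ∀ c g, c < N → g < 12 → tget T c g < N := fun c g hc hg => (hE' c g hc hg).1
  have hrep : ∀ v, 0 < v → v < N →
      rep φ P v = rep φ P (parent P v / 16) * φ (parent P v % 16) := by
    intro v hv hvN
    have h := allBelow_iff.1 hP v hvN
    simp only [treeAt, force_eq, Bool.or_eq_true, Bool.and_eq_true, Nat.beq_eq, Nat.blt_eq] at h
    rcases h with h | h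
    · omega
    · conv_lhs => rw [rep, if_pos ⟨hv, h.1.1⟩]
  suffices h : ∀ m, ∀ i g, i < N → g < 12 → jget T i g / 320 * N + i = m → Edge φ P T H i g from
    fun i g hi hg => ⟨hT i g hi hg, h _ i g hi hg rfl⟩
  intro m
  induction m using Nat.strong_induction_on with
  | _ m ih =>
    intro i g hi hg hd
    obtain ⟨ht, h⟩ := hE' i g hi hg
    rcases h with ((⟨-, htree⟩ | ⟨⟨⟨-, hi0⟩, ht0⟩, hin⟩) | ⟨⟨⟨-, hlt⟩, hback⟩, hdep⟩) | ⟨⟨hk, hk'⟩, hw, hwalk⟩
    · rw [Edge]
      rcases htree with ⟨hpos, hp⟩ | ⟨hpos, hp⟩
      · rw [hrep _ hpos ht, hp, show (16 * i + g) / 16 = i by omega, show (16 * i + g) % 16 = g by omega]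
        simp
      · rw [hrep i hpos hi, hp, show (16 * tget T i g + g) / 16 = tget T i g by omega,
          show (16 * tget T i g + g) % 16 = g by omega, mul_assoc (rep φ P (tget T i g)), hinvol g hg, mul_one,
          mul_inv_cancel]
        exact H.one_mem
    · rw [Edge, ht0, hi0, rep_zero, one_mul, inv_one, mul_one]
      exact hH g hg hin
    · change jget T (tget T i g) g / 320 ≤ jget T i g / 320 at hdep
      have hm : jget T (tget T i g) g / 320 * N + tget T i g < m := by
        have := Nat.mul_le_mul_right N hdep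
        omega
      have h1 := H.inv_mem (ih _ hm _ g ht hg rfl)
      rw [hback] at h1
      rw [Edge]
      convert h1 using 1
      rw [mul_inv_rev, mul_inv_rev, inv_inv, inv_eq_of_mul_eq_one_right (hinvol g hg)]
      group
    · change _ = _ at hw
      have hk2 : jget T i g % 320 - 3 < nR := by
        have : Nat.mod (jget T i g) 320 = jget T i g % 320 := rfl
        rw [this] at hk hk'
        omega
      rw [show Nat.sub (Nat.mod (jget T i g) 320) 3 = jget T i g % 320 - 3 from rfl, hR _ hk2] at hw hwalk
      generalize hl : rots.getD (jget T i g % 320 - 3) [] = l at hw hwalk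
      cases l with
      | nil =>
        rw [code] at hw
        change 0 % 16 = g + 1 at hw
        omega
      | cons x l =>
        have hmem : (x :: l) ∈ rots := by
          rw [← hl]
          rcases Nat.lt_or_ge (jget T i g % 320 - 3) rots.length with h | h
          · rw [List.getD_eq_getElem _ _ h]; exact List.getElem_mem h
          · rw [List.getD_eq_default _ _ h] at hl; exact absurd hl (by simp)
        obtain ⟨hlt, hprod⟩ := hrots _ hmem
        have hx : x = g := by
          have hx12 := hlt x List.mem_cons_self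
          change code (x :: l) % 16 = g + 1 at hw
          rw [code] at hw; omega
        subst hx
        rw [show Nat.div (code (x :: l)) 16 = code l by
          show code (x :: l) / 16 = code l
          rw [code]; have := hlt x List.mem_cons_self; omega] at hwalk
        have h2 := walk_sound (φ := φ) (P := P) (H := H) (N := N)
          (fun c y hc hy hd' => ih _ (by
            have := Nat.mul_le_mul_right N (show jget T c y / 320 + 1 ≤ jget T i x / 320 from hd')
            rw [Nat.add_mul, one_mul] at this
            omega) c y hc hy rfl) hT 256 l _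
          (fun y hy => hlt y (List.mem_cons_of_mem _ hy)) ht hwalk
        rw [List.map_cons, List.prod_cons] at hprod
        rw [eq_inv_of_mul_eq_one_right hprod] at h2
        have h3 := H.inv_mem h2
        rw [Edge]
        convert h3 using 1
        group

/-- Every element lies in one of the listed cosets. -/
theorem covers (hN : 0 < N) (hgen : Subgroup.closure {x | ∃ g < 12, φ g = x} = ⊤)
    (hinvol : ∀ g < 12, φ g * φ g = 1)
    (h : ∀ i g, i < N → g < 12 → tget T i g < N ∧ Edge φ P T H i g) (x : G) :
    ∃ i < N, x * (rep φ P i)⁻¹ ∈ H := by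
  have hx : x ∈ Submonoid.closure ({x | ∃ g < 12, φ g = x} ∪ {x | ∃ g < 12, φ g = x}⁻¹) := by
    rw [← Subgroup.closure_toSubmonoid, hgen]; trivial
  suffices ∀ i < N, ∃ j < N, rep φ P i * x * (rep φ P j)⁻¹ ∈ H by
    obtain ⟨j, hj, hm⟩ := this 0 hN
    exact ⟨j, hj, by simpa [rep_zero] using hm⟩
  induction hx using Submonoid.closure_induction with
  | one => exact fun i hi => ⟨i, hi, by simp⟩
  | mem y hy =>
    obtain ⟨g, hg, rfl⟩ : ∃ g < 12, φ g = y := by
      rcases hy with hy | hy
      · exact hy
      · obtain ⟨g, hg, he⟩ := Set.mem_inv.1 hy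
        exact ⟨g, hg, inv_injective ((inv_eq_of_mul_eq_one_right (hinvol g hg)).trans he)⟩
    exact fun i hi => ⟨_, (h i g hi hg).1, (h i g hi hg).2⟩
  | mul a b _ _ ha hb =>
    intro i hi
    obtain ⟨j, hj, h1⟩ := ha i hi
    obtain ⟨k, hk, h2⟩ := hb j hj
    refine ⟨k, hk, ?_⟩
    have h3 := H.mul_mem h1 h2
    convert h3 using 1
    group

end

end Cfsg.Agent.Lib.Fi24.Cert
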