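import Cfsg.Agent.Lib.Fi24.Check.P0
import Cfsg.Agent.Lib.Fi24.Check.P1
import Cfsg.Agent.Lib.Fi24.Check.P2
import Cfsg.Agent.Lib.Fi24.Check.P3
import Cfsg.Agent.Lib.Fi24.Check.P4
import Cfsg.Agent.Lib.Fi24.Check.P5
import Cfsg.Agent.Lib.Fi24.Check.P6
import Cfsg.Agent.Lib.Fi24.Check.P7
import Cfsg.Agent.Lib.Fi24.Check.P8
import Cfsg.Agent.Lib.Fi24.Check.P9
import Cfsg.Agent.Lib.Fi24.Check.P10
import Cfsg.Agent.Lib.Fi24.Check.P11
import Cfsg.Agent.Lib.Fi24.Check.P12
import Cfsg.Agent.Lib.Fi24.Check.P13
import Cfsg.Agent.Lib.Fi24.Check.P14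
import Cfsg.Agent.Lib.Fi24.Check.P15
import Cfsg.Agent.Lib.Fi24.Check.P16
import Cfsg.Agent.Lib.Fi24.Check.P17
import Cfsg.Agent.Lib.Fi24.Check.P18
import Cfsg.Agent.Lib.Fi24.Check.P19
import Cfsg.Agent.Lib.Fi24.Check.P20
import Cfsg.Agent.Lib.Fi24.Check.P21
import Cfsg.Agent.Lib.Fi24.Check.P22
import Cfsg.Agent.Lib.Fi24.Check.P23
import Cfsg.Agent.Lib.Fi24.Check.P24
import Cfsg.Agent.Lib.Fi24.Check.P25
import Cfsg.Agent.Lib.Fi24.Check.P26
import Cfsg.Agent.Lib.Fi24.Check.P27
import Cfsg.Agent.Lib.Fi24.Check.P28
import Cfsg.Agent.Lib.Fi24.Check.P29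
import Cfsg.Agent.Lib.Fi24.Check.P30
import Cfsg.Agent.Lib.Fi24.Check.P31
import Cfsg.Agent.Lib.Fi24.Check.P32
import Cfsg.Agent.Lib.Fi24.Check.P33
import Cfsg.Agent.Lib.Fi24.Check.P34
import Cfsg.Agent.Lib.Fi24.Check.P35
import Cfsg.Agent.Lib.Fi24.Check.P36
import Cfsg.Agent.Lib.Fi24.Check.P37
import Cfsg.Agent.Lib.Fi24.Check.P38
import Cfsg.Agent.Lib.Fi24.Check.P39

/-! All points pass. -/

set_option autoImplicit false
set_option maxRecDepth 20000
set_option Elab.async false

namespace Cfsg.Agent.Lib.Fi24

open Cfsg.Agent.Lib.CosetEnum (allBelow allFrom)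

theorem points_ok : allBelow 306936 pointOk = true := by
  refine CosetEnum.allBelow_iff.2 fun i hi => ?_
  by_cases h : i < 7680
  · exact range0 i (by omega) h
  by_cases h : i < 15360
  · exact range1 i (by omega) h
  by_cases h : i < 23040
  · exact range2 i (by omega) h
  by_cases h : i < 30720
  · exact range3 i (by omega) h
  by_cases h : i < 38400
  · exact range4 i (by omega) h
  by_cases h : i < 46080
  · exact range5 i (by omega) h
  by_cases h : i < 53760
  · exact range6 i (by omega) h
  by_cases h : i < 61440
  · exact range7 i (by omega) h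
  by_cases h : i < 69120
  · exact range8 i (by omega) h
  by_cases h : i < 76800
  · exact range9 i (by omega) h
  by_cases h : i < 84480
  · exact range10 i (by omega) h
  by_cases h : i < 92160
  · exact range11 i (by omega) h
  by_cases h : i < 99840
  · exact range12 i (by omega) h
  by_cases h : i < 107520
  · exact range13 i (by omega) h
  by_cases h : i < 115200
  · exact range14 i (by omega) h
  by_cases h : i < 122880
  · exact range15 i (by omega) h
  by_cases h : i < 130560
  · exact range16 i (by omega) h
  by_cases h : i < 138240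
  · exact range17 i (by omega) h
  by_cases h : i < 145920
  · exact range18 i (by omega) h
  by_cases h : i < 153600
  · exact range19 i (by omega) h
  by_cases h : i < 161280
  · exact range20 i (by omega) h
  by_cases h : i < 168960
  · exact range21 i (by omega) h
  by_cases h : i < 176640
  · exact range22 i (by omega) h
  by_cases h : i < 184320
  · exact range23 i (by omega) h
  by_cases h : i < 192000
  · exact range24 i (by omega) h
  by_cases h : i < 199680
  · exact range25 i (by omega) h
  by_cases h : i < 207360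
  · exact range26 i (by omega) h
  by_cases h : i < 215040
  · exact range27 i (by omega) h
  by_cases h : i < 222720
  · exact range28 i (by omega) h
  by_cases h : i < 230400
  · exact range29 i (by omega) h
  by_cases h : i < 238080
  · exact range30 i (by omega) h
  by_cases h : i < 245760
  · exact range31 i (by omega) h
  by_cases h : i < 253440
  · exact range32 i (by omega) h
  by_cases h : i < 261120
  · exact range33 i (by omega) h
  by_cases h : i < 268800
  · exact range34 i (by omega) h
  by_cases h : i < 276480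
  · exact range35 i (by omega) h
  by_cases h : i < 284160
  · exact range36 i (by omega) h
  by_cases h : i < 291840
  · exact range37 i (by omega) h
  by_cases h : i < 299520
  · exact range38 i (by omega) h
  exact range39 i (by omega) hi

end Cfsg.Agent.Lib.Fi24
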