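import Cfsg.Agent.Lib.Fi24.Out.Trans
import Cfsg.Prelude.Def_SporadicB

/-!
The transpositions of Fi24: a class of 3-transpositions in bijection with the points, each centraliser the
product of the transposition and a copy of Fi23.
-/

set_option autoImplicit false
set_option maxRecDepth 20000

namespace Cfsg.Agent.Lib.Fi24.Out

open Cfsg.Agent.Lib.CosetEnum (force force_eq allBelow allBelow_iff)
open Cfsg.Agent.Lib

attribute [local irreducible] table tree small big subPos bigTree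

/-- The class of transpositions. -/
def transps : Set G := Set.range fun p : Fin 306936 => tau p.1

theorem tau_zero : tau 0 = xg 0 := by rw [tau, Cert.rep_zero, inv_one, one_mul, mul_one]

theorem tau_sq (p : ℕ) : tau p * tau p = 1 := by
  rw [tau]
  calc (Cert.rep xg tree p)⁻¹ * xg 0 * Cert.rep xg tree p * ((Cert.rep xg tree p)⁻¹ * xg 0 * Cert.rep xg tree p)
      = (Cert.rep xg tree p)⁻¹ * (xg 0 * xg 0) * Cert.rep xg tree p := by group
    _ = 1 := by rw [xg_sq (by omega)]; group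

namespace OFacts

variable (F : OFacts)
include F

/-- Each point is `0`, or moved by `H` to one of two representatives. -/
theorem suborbit (p : Fin 306936) : p = pt0 ∨ ∃ h ∈ H, ∃ r : Fin 306936,
    (r.1 = Cert.col19 small 0 ∨ r.1 = Cert.col19 big 0) ∧ F.mv h r = p := by
  by_cases hp : p = pt0
  · exact Or.inl hp
  refine Or.inr ?_
  obtain ⟨ρ23, -, hρ23, -, htr23, -, -, -, -, -, -, -⟩ := CosetEnum.Fi23Orbit.main
  have hsub : ∀ m : Fin 31671, ∃ h ∈ H, F.mv h (emb ⟨0, by omega⟩) = emb m := by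
    intro m
    obtain ⟨z, hz⟩ := htr23 m
    have hzc : z ∈ Subgroup.closure {x | ∃ g < CosetEnum.Fi23x31671.letters.K,
        CosetEnum.Fi23x31671.letters.phi CosetEnum.Fi23x31671.pres g = x} := by
      rw [CosetEnum.Letters.gen_closure (L := CosetEnum.Fi23x31671.letters) CosetEnum.Fi23x31671.table_ok.col]
      exact Subgroup.mem_top z
    have key : ∀ w : Cfsg.Spor.Fi23, w ∈ Subgroup.closure {x | ∃ g < CosetEnum.Fi23x31671.letters.K,
        CosetEnum.Fi23x31671.letters.phi CosetEnum.Fi23x31671.pres g = x} →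
        ∀ a, ∃ h ∈ H, F.mv h (emb a) = emb (ρ23 w a) := by
      intro w hw
      have gen : ∀ g < 10, ∀ a, ∃ h ∈ H, F.mv h (emb a) =
          emb ((ρ23 (CosetEnum.Fi23x31671.letters.phi CosetEnum.Fi23x31671.pres g))⁻¹ a) := by
        intro g hg a
        refine ⟨xg (g + 2), Subgroup.subset_closure ⟨g + 2, by omega, by omega, rfl⟩, Fin.ext ?_⟩
        rw [F.mv_xg (by omega)]
        show Cert.tget table (Cert.col19 small a.1) (g + 2) = Cert.col19 small _
        rw [hρ23 g (show g < 10 from hg)]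
        exact (small_spec a.2).2.2.2.2 g hg
      induction hw using Subgroup.closure_induction with
      | mem y hy =>
        obtain ⟨g, hg, rfl⟩ := hy
        intro a
        obtain ⟨h, hh, he⟩ := gen g hg (ρ23 (CosetEnum.Fi23x31671.letters.phi CosetEnum.Fi23x31671.pres g) a)
        refine ⟨h⁻¹, H.inv_mem hh, ?_⟩
        rw [Equiv.Perm.inv_def, Equiv.symm_apply_apply] at he
        rw [← he, F.mv_inv]
      | one => intro a; exact ⟨1, H.one_mem, by rw [F.mv_one, map_one, Equiv.Perm.one_apply]⟩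
      | mul u v _ _ hu hv =>
        intro a
        obtain ⟨h, hh, he⟩ := hv a
        obtain ⟨h', hh', he'⟩ := hu (ρ23 v a)
        exact ⟨h * h', H.mul_mem hh hh', by rw [F.mv_mul, he, he', map_mul, Equiv.Perm.mul_apply]⟩
      | inv u _ hu =>
        intro a
        obtain ⟨h, hh, he⟩ := hu ((ρ23 u)⁻¹ a)
        refine ⟨h⁻¹, H.inv_mem hh, ?_⟩
        rw [Equiv.Perm.inv_def, Equiv.apply_symm_apply] at he
        rw [map_inv, Equiv.Perm.inv_def]
        conv_lhs => rw [← he]
        exact F.mv_inv _ _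
    obtain ⟨a0, ha0⟩ := htr23 ⟨0, by omega⟩
    obtain ⟨h1, hh1, e1⟩ := key z hzc ⟨0, by omega⟩
    have ha0c : a0 ∈ Subgroup.closure {x | ∃ g < CosetEnum.Fi23x31671.letters.K,
        CosetEnum.Fi23x31671.letters.phi CosetEnum.Fi23x31671.pres g = x} := by
      rw [CosetEnum.Letters.gen_closure (L := CosetEnum.Fi23x31671.letters) CosetEnum.Fi23x31671.table_ok.col]
      exact Subgroup.mem_top a0
    exact ⟨h1, hh1, e1.trans (congrArg emb hz)⟩
  have h := allBelow_iff.1 coverPt_ok p.1 p.2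
  simp only [coverPt, force_eq, Bool.and_eq_true, Bool.or_eq_true, Nat.blt_eq, Nat.beq_eq, Nat.ble_eq] at h
  rcases h with h | ⟨hlt, hs⟩ | ⟨⟨-, hlt⟩, hs⟩
  · exact absurd (Fin.ext h) hp
  · obtain ⟨h, hh, he⟩ := hsub ⟨_, hlt⟩
    exact ⟨h, hh, _, Or.inl rfl, he.trans (Fin.ext hs)⟩
  · suffices ∀ j, j < 275264 → ∀ q : Fin 306936, q.1 = Cert.col19 big j →
        ∃ h ∈ H, ∃ r : Fin 306936, (r.1 = Cert.col19 small 0 ∨ r.1 = Cert.col19 big 0) ∧ F.mv h r = q from
      this _ hlt p hs.symm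
    intro j
    induction j using Nat.strong_induction_on with
    | _ j ih =>
      intro hj q hq
      rcases Nat.eq_zero_or_pos j with rfl | hpos
      · exact ⟨1, H.one_mem, q, Or.inr hq, F.mv_one q⟩
      have h := allBelow_iff.1 bigAt_ok j hj
      simp only [bigAt, force_eq, Bool.and_eq_true, Bool.or_eq_true, Nat.blt_eq, Nat.beq_eq] at h
      rcases h.2 with h0 | ⟨⟨⟨hlt, hg⟩, hin⟩, ht⟩
      · omega
      change Cert.parent bigTree j / 16 < j at hlt
      change Cert.parent bigTree j % 16 < 12 at hg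
      have hb := allBelow_iff.1 bigAt_ok (Cert.parent bigTree j / 16) (by omega)
      simp only [bigAt, force_eq, Bool.and_eq_true, Nat.blt_eq] at hb
      obtain ⟨x, hx, r, hr, hxr⟩ := ih _ hlt (by omega) ⟨_, hb.1.1⟩ rfl
      refine ⟨x * xg (Cert.parent bigTree j % 16), H.mul_mem hx (Subgroup.subset_closure
        ⟨_, hg, fun e => by
          change inH (Cert.parent bigTree j % 16) = true at hin
          rw [e] at hin
          exact absurd hin (by decide), rfl⟩), r, hr, ?_⟩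
      rw [F.mv_mul, hxr]
      apply Fin.ext
      rw [F.mv_xg hg, hq]
      exact ht

/-- A transposition commutes with `H` only at the base point. -/
theorem mv_pt0_of_comm {g : G} (hg : g * xg 0 = xg 0 * g) : F.mv g pt0 = pt0 := by
  have h := F.tau_mv g pt0
  change g⁻¹ * tau 0 * g = tau (F.mv g pt0).1 at h
  rw [tau_zero, mul_assoc, ← hg, inv_mul_cancel_left] at h
  rcases F.suborbit (F.mv g pt0) with h0 | ⟨x, hx, r, hr, hxr⟩
  · exact h0
  exfalso
  rw [← hxr, ← F.tau_mv x r] at h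
  have hc := F.central x hx
  have hrl : tau r.1 = xg 0 := by
    calc tau r.1 = x * (x⁻¹ * tau r.1 * x) * x⁻¹ := by group
      _ = xg 0 := by rw [← h, hc, mul_inv_cancel_right]
  have hsame : ∀ v : Fin 306936, reflp r.1 v.1 = Cert.tget table v.1 0 := fun v => by
    rw [F.reflp_eq r v, hrl, F.mv_xg (by omega)]
  rcases hr with hr | hr
  · have h2 := hsame ⟨2, by omega⟩
    rw [hr] at h2
    exact absurd h2 (show ¬ reflp (Cert.col19 small 0) 2 = Cert.tget table 2 0 by decide +kernel)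
  · have h2 := hsame ⟨0, by omega⟩
    rw [hr] at h2
    exact absurd h2 (show ¬ reflp (Cert.col19 big 0) 0 = Cert.tget table 0 0 by decide +kernel)

theorem centralizer_l : Subgroup.centralizer ({xg 0} : Set G) = H := by
  ext g
  rw [Subgroup.mem_centralizer_singleton_iff]
  exact ⟨fun hg => (F.mem_H g).2 (F.mv_pt0_of_comm hg), fun hg => F.central g hg⟩

theorem tau_injective : Function.Injective fun p : Fin 306936 => tau p.1 := by
  intro p q he
  change tau p.1 = tau q.1 at he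
  let g := Cert.rep xg tree p.1 * (Cert.rep xg tree q.1)⁻¹
  have hg : g * xg 0 = xg 0 * g := by
    rw [tau, tau] at he
    show Cert.rep xg tree p.1 * (Cert.rep xg tree q.1)⁻¹ * xg 0 = _
    calc Cert.rep xg tree p.1 * (Cert.rep xg tree q.1)⁻¹ * xg 0
        = Cert.rep xg tree p.1 * ((Cert.rep xg tree q.1)⁻¹ * xg 0 * Cert.rep xg tree q.1) *
            (Cert.rep xg tree q.1)⁻¹ := by group
      _ = xg 0 * (Cert.rep xg tree p.1 * (Cert.rep xg tree q.1)⁻¹) := by rw [← he]; group
  have h := F.mv_pt0_of_comm hg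
  rw [F.mv_mul, F.mv_rep p.1 p.2] at h
  have hq : F.mv (Cert.rep xg tree q.1) pt0 = q := F.mv_rep q.1 q.2
  rw [← hq]
  conv_rhs => rw [← h]
  exact (F.mv_inv' _ _).symm

theorem orderOf_tau (p : Fin 306936) : orderOf (tau p.1) = 2 := by
  refine orderOf_eq_prime (by rw [pow_two]; exact tau_sq _) fun h => ?_
  rw [tau] at h
  have hl : xg 0 = 1 := by
    calc xg 0 = Cert.rep xg tree p.1 * ((Cert.rep xg tree p.1)⁻¹ * xg 0 * Cert.rep xg tree p.1) *
        (Cert.rep xg tree p.1)⁻¹ := by group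
      _ = 1 := by rw [h]; group
  have h1 := F.mv_xg (g := 0) (by omega) ⟨1, by omega⟩
  rw [hl, F.mv_one] at h1
  exact (show Cert.tget table 1 0 ≠ 1 by decide +kernel) h1.symm

theorem three_transposition_zero (q : Fin 306936) :
    (xg 0 * tau q.1) ^ 2 = 1 ∨ (xg 0 * tau q.1) ^ 3 = 1 := by
  have conj : ∀ (h : G) (r : Fin 306936) (n : ℕ), h ∈ H → (xg 0 * tau r.1) ^ n = 1 →
      (xg 0 * tau (F.mv h r).1) ^ n = 1 := by
    intro h r n hh he
    rw [← F.tau_mv h r]
    have hc := F.central h hh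
    have : xg 0 * (h⁻¹ * tau r.1 * h) = h⁻¹ * (xg 0 * tau r.1) * h := by
      calc xg 0 * (h⁻¹ * tau r.1 * h) = h⁻¹ * (h * xg 0) * (h⁻¹ * tau r.1 * h) := by group
        _ = _ := by rw [hc]; group
    rw [this, show h⁻¹ * (xg 0 * tau r.1) * h = h⁻¹ * (xg 0 * tau r.1) * (h⁻¹)⁻¹ by group, conj_pow, he,
      mul_one, mul_inv_cancel]
  rcases F.suborbit q with h0 | ⟨x, hx, r, hr, rfl⟩
  · left
    rw [h0, show (pt0 : Fin 306936).1 = 0 from rfl, tau_zero, pow_two, xg_sq (by omega), one_mul]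
  rcases hr with hr | hr
  · left
    refine conj x r 2 hx ?_
    have hH : tau r.1 ∈ H := by
      rw [F.mem_H]
      apply Fin.ext
      rw [← F.reflp_eq r pt0, hr]
      exact show reflp (Cert.col19 small 0) 0 = 0 by decide +kernel
    have hc := F.central _ hH
    calc (xg 0 * tau r.1) ^ 2 = xg 0 * (tau r.1 * xg 0) * tau r.1 := by rw [pow_two]; group
      _ = (xg 0 * xg 0) * (tau r.1 * tau r.1) := by rw [hc]; group
      _ = 1 := by rw [xg_sq (by omega), tau_sq, one_mul]
  · right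
    refine conj x r 3 hx ?_
    refine F.eq_of_genPts fun g hg hp => Fin.ext ?_
    rw [pow_succ, pow_two, F.mv_mul, F.mv_mul, F.mv_mul, F.mv_mul, F.mv_mul, F.mv_one, ← F.reflp_eq, F.mv_xg (by omega),
      ← F.reflp_eq, F.mv_xg (by omega), ← F.reflp_eq, F.mv_xg (by omega), hr]
    exact (show ∀ g < 12, reflp (Cert.col19 big 0) (Cert.tget table (reflp (Cert.col19 big 0)
      (Cert.tget table (reflp (Cert.col19 big 0) (Cert.tget table (genPts.getD g 0) 0)) 0)) 0) = genPts.getD g 0 by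
        decide +kernel) g hg

theorem isThreeTranspositionClass : Cfsg.IsThreeTranspositionClass transps := by
  refine ⟨⟨?_, ?_⟩, ⟨xg 0, ⟨pt0, tau_zero⟩, ?_⟩, ?_⟩
  · rintro _ ⟨p, rfl⟩
    exact F.orderOf_tau p
  · rintro _ ⟨p, rfl⟩ _ ⟨q, rfl⟩
    change (tau p.1 * tau q.1) ^ 2 = 1 ∨ (tau p.1 * tau q.1) ^ 3 = 1
    let r := Cert.rep xg tree p.1
    have h := F.three_transposition_zero (F.mv r⁻¹ q)
    rw [← F.tau_mv r⁻¹ q, inv_inv] at h
    have he : tau p.1 * tau q.1 = r⁻¹ * (xg 0 * (r * tau q.1 * r⁻¹)) * r := by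
      show r⁻¹ * xg 0 * r * tau q.1 = _
      group
    rw [he, show r⁻¹ * (xg 0 * (r * tau q.1 * r⁻¹)) * r = r⁻¹ * (xg 0 * (r * tau q.1 * r⁻¹)) * (r⁻¹)⁻¹ by group,
      conj_pow, conj_pow]
    rcases h with h | h <;> rw [h]
    · left; rw [mul_one, mul_inv_cancel]
    · right; rw [mul_one, mul_inv_cancel]
  · ext y
    show y ∈ transps ↔ IsConj (xg 0) y
    constructor
    · rintro ⟨p, rfl⟩
      exact isConj_iff.2 ⟨(Cert.rep xg tree p.1)⁻¹, by rw [inv_inv]; rfl⟩
    · intro h
      obtain ⟨c, rfl⟩ := isConj_iff.1 h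
      refine ⟨F.mv c⁻¹ pt0, ?_⟩
      show tau (F.mv c⁻¹ pt0).1 = _
      rw [← F.tau_mv c⁻¹ pt0, inv_inv, show (pt0 : Fin 306936).1 = 0 from rfl, tau_zero]
  · rw [eq_top_iff, ← F.closure_genPts]
    refine Subgroup.closure_mono ?_
    rintro _ ⟨g, hg, rfl⟩
    exact ⟨⟨_, (F.genPts_tau g hg).1⟩, rfl⟩

theorem card_transps : Nat.card transps = 306936 := by
  rw [transps, Nat.card_range_of_injective F.tau_injective, Nat.card_eq_fintype_card, Fintype.card_fin]

/-- The centraliser of a transposition is a conjugate of `H`. -/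
theorem centralizer_tau (p : Fin 306936) : Subgroup.centralizer ({tau p.1} : Set G) =
    H.map (MulAut.conj (Cert.rep xg tree p.1)⁻¹).toMonoidHom := by
  rw [← F.centralizer_l]
  ext g
  let r := Cert.rep xg tree p.1
  rw [Subgroup.mem_centralizer_singleton_iff, Subgroup.mem_map_equiv, Subgroup.mem_centralizer_singleton_iff,
    MulAut.conj_symm_apply, inv_inv]
  show g * (r⁻¹ * xg 0 * r) = r⁻¹ * xg 0 * r * g ↔ r * g * r⁻¹ * xg 0 = xg 0 * (r * g * r⁻¹)
  constructor <;> intro h
  · calc r * g * r⁻¹ * xg 0 = r * (g * (r⁻¹ * xg 0 * r)) * r⁻¹ := by group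
      _ = _ := by rw [h]; group
  · calc g * (r⁻¹ * xg 0 * r) = r⁻¹ * (r * g * r⁻¹ * xg 0) * r := by group
      _ = _ := by rw [h]; group

end OFacts

end Cfsg.Agent.Lib.Fi24.Out
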