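import Cfsg.Agent.Lib.Fi24.Words
import Cfsg.Agent.Lib.Fi24.Data.Table

/-! The checks at one point of the table of Fi24. -/

set_option autoImplicit false

namespace Cfsg.Agent.Lib.Fi24

open Cfsg.Agent.Lib.CosetEnum (force allBelow)

/-- All checks at point `i`. -/
noncomputable def pointOk (i : ℕ) : Bool :=
  Cert.edgeAt 306936 table tree rotTree 288 inH i && Cert.treeAt table tree i &&
  Cert.pairsAt 306936 table adjM i &&
  Cert.wordAt table cox3 ((List.replicate 3 cox).flatten) i && Cert.wordAt table spider1 spider i &&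
  Cert.powAt spider1 spider4 4 i &&
  Nat.beq (Nat.rec (Cert.tget table i 0) (fun _ c => force c (Cert.col19 cox3)) 3) i &&
  Nat.beq (Cert.col19 spider1 (Nat.rec i (fun _ c => force c (Cert.col19 spider4)) 4)) i

end Cfsg.Agent.Lib.Fi24
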