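import Cfsg.Agent.Lib.Fi24.Presented
import Cfsg.Agent.Lib.Fi24.Points
import Cfsg.Agent.Lib.CosetEnum.Index

/-! From the checks at all points: the action on 306936 cosets and the index. -/

set_option autoImplicit false
set_option maxRecDepth 20000

namespace Cfsg.Agent.Lib.Fi24

open Cfsg.Agent.Lib.CosetEnum (allBelow allBelow_iff force_eq)

attribute [local irreducible] table tree cox3 spider1 spider4 rotTree

/-- The action with point `0` stabilised exactly by `H`. -/
def CosetAction : Prop :=
  ∃ ρ : G →* Equiv.Perm (Fin 306936),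
    (∀ l : List ℕ, (∀ g ∈ l, g < 12) → ∀ i : Fin 306936,
      ((ρ (l.map xg).prod)⁻¹ i).1 = Cert.scanT table l i.1) ∧
    (∀ x, x ∈ H ↔ ρ x ⟨0, by omega⟩ = ⟨0, by omega⟩) ∧
    (∀ i, ∃ x, ρ x ⟨0, by omega⟩ = i) ∧ H.index = 306936

theorem scanT_cons (T : CosetEnum.PTree) (g : ℕ) (l : List ℕ) (i : ℕ) :
    Cert.scanT T (g :: l) i = Cert.scanT T l (Cert.tget T i g) :=
  force_eq _ (Cert.scanT T l)

theorem col19_chain {P : CosetEnum.PTree} (n i : ℕ) :
    (Nat.rec i (fun _ c => CosetEnum.force c (Cert.col19 P)) n : ℕ) = (Cert.col19 P)^[n] i :=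
  Cert.powAt_rec P n i

theorem cosetAction_of_points (hP : allBelow 306936 pointOk = true) : CosetAction := by
  have hP' := allBelow_iff.1 hP
  simp only [pointOk, Bool.and_eq_true, Nat.beq_eq] at hP'
  have hE : allBelow 306936 (Cert.edgeAt 306936 table tree rotTree 288 inH) = true :=
    allBelow_iff.2 fun i hi => (hP' i hi).1.1.1.1.1.1.1
  have hT : allBelow 306936 (Cert.treeAt table tree) = true :=
    allBelow_iff.2 fun i hi => (hP' i hi).1.1.1.1.1.1.2
  have hA : allBelow 306936 (Cert.pairsAt 306936 table adjM) = true :=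
    allBelow_iff.2 fun i hi => (hP' i hi).1.1.1.1.1.2
  have hC : allBelow 306936 (Cert.wordAt table cox3 ((List.replicate 3 cox).flatten)) = true :=
    allBelow_iff.2 fun i hi => (hP' i hi).1.1.1.1.2
  have hW : allBelow 306936 (Cert.wordAt table spider1 spider) = true :=
    allBelow_iff.2 fun i hi => (hP' i hi).1.1.1.2
  let p := Cert.perm hA
  have hcox12 : ∀ g ∈ (List.replicate 3 cox).flatten, g < 12 := by decide +kernel
  have hsp12 : ∀ g ∈ spider, g < 12 := by decide +kernel
  have hpow : ∀ (n : ℕ) (l : List ℕ), ((List.replicate n l).flatten.map p).prod = (l.map p).prod ^ n := by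
    intro n l
    induction n with
    | zero => simp
    | succ n ih => rw [List.replicate_succ, List.flatten_cons, List.map_append, List.prod_append, ih, pow_succ']
  have hrel1 : p 0 * (cox.map p).prod ^ 9 = 1 := by
    have h1 : ((0 :: (List.replicate 3 (List.replicate 3 cox).flatten).flatten).map p).prod = 1 := by
      refine Cert.prod_eq_one hA (by decide +kernel) fun i hi => ?_
      have h := (hP' i hi).1.2
      rw [col19_chain] at h
      rw [scanT_cons, Cert.scanT_replicate,
        ← (Cert.iterate_spec hA hC hcox12 3 (Cert.pairs_lt hA hi (by omega))).1]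
      exact h
    rw [List.map_cons, List.prod_cons, hpow, hpow, ← pow_mul] at h1
    exact h1
  have hrel2 : (spider.map p).prod ^ 17 = 1 := by
    rw [← hpow]
    refine Cert.prod_eq_one hA (by decide +kernel) fun i hi => ?_
    have h := (hP' i hi).2
    rw [col19_chain] at h
    have h4 : ∀ j < 306936, Cert.col19 spider4 j = (Cert.scanT table spider)^[4] j ∧
        Cert.col19 spider4 j < 306936 := by
      intro j hj
      have h1 := (hP' j hj).1.1.2
      simp only [Cert.powAt, Nat.beq_eq, Cert.powAt_rec] at h1
      obtain ⟨h2, h3⟩ := Cert.iterate_spec hA hW hsp12 4 hj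
      exact ⟨h1.trans h2, h1 ▸ h3⟩
    have h16 : ∀ n, (Cert.col19 spider4)^[n] i = (Cert.scanT table spider)^[4 * n] i ∧
        (Cert.col19 spider4)^[n] i < 306936 := by
      intro n
      induction n with
      | zero => exact ⟨rfl, hi⟩
      | succ n ih =>
        rw [Function.iterate_succ_apply']
        obtain ⟨h1, h2⟩ := h4 _ ih.2
        refine ⟨?_, h2⟩
        rw [h1, ih.1, ← Function.iterate_add_apply, show 4 + 4 * n = 4 * (n + 1) by ring]
    obtain ⟨ha, hb⟩ := h16 4
    rw [(Cert.wordAt_spec hA hW hsp12 hb).1, ha] at h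
    rw [show (17 : ℕ) = Nat.succ (4 * 4) from rfl, Cert.scanT_replicate, Function.iterate_succ_apply']
    exact h
  have hrel : ∀ r ∈ pres, FreeGroup.lift (fun x => p (col x)) r = 1 := by
    rintro r (⟨x, -, y, -, rfl⟩ | hr)
    · rw [map_pow, map_mul, FreeGroup.lift_apply_of, FreeGroup.lift_apply_of, coxLabel_eq]
      have hx := col_lt x
      have hy := col_lt y
      generalize col x = a at hx ⊢
      generalize col y = b at hy ⊢
      rcases eq_or_ne a b with rfl | hne
      · rw [if_pos rfl, pow_one]; exact Cert.perm_sq hA hx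
      rw [if_neg hne]
      have key : ∀ g k, k < g → g < 12 → (p g * p k) ^ (if joined g k then 3 else 2) = 1 ∧
          (p k * p g) ^ (if joined g k then 3 else 2) = 1 := by
        intro g k hk hg
        have h := Cert.pair_rel hA hg hk
        have hs1 := Cert.perm_sq hA hg
        have hs2 := Cert.perm_sq hA (lt_trans hk hg)
        rw [joined, max_eq_left hk.le, min_eq_right hk.le]
        constructor <;> split_ifs with hb
        · rw [if_pos hb] at h
          calc (p g * p k) ^ 3 = (p g * p k * p g) * (p k * p g * p k) := by simp [pow_succ, mul_assoc]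
            _ = (p g * p k * p g) * (p g * p k * p g) := by rw [h]
            _ = p g * p k * (p g * p g) * (p k * p g) := by simp [mul_assoc]
            _ = p g * (p k * p k) * p g := by rw [hs1]; simp [mul_assoc]
            _ = 1 := by rw [hs2, mul_one, hs1]
        · rw [if_neg hb] at h
          calc (p g * p k) ^ 2 = (p g * p k) * (p g * p k) := pow_two _
            _ = (p g * p k) * (p k * p g) := by rw [h]
            _ = p g * (p k * p k) * p g := by simp [mul_assoc]
            _ = 1 := by rw [hs2, mul_one, hs1]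
        · rw [if_pos hb] at h
          calc (p k * p g) ^ 3 = (p k * p g * p k) * (p g * p k * p g) := by simp [pow_succ, mul_assoc]
            _ = (p k * p g * p k) * (p k * p g * p k) := by rw [h]
            _ = p k * p g * (p k * p k) * (p g * p k) := by simp [mul_assoc]
            _ = p k * (p g * p g) * p k := by rw [hs2]; simp [mul_assoc]
            _ = 1 := by rw [hs1, mul_one, hs2]
        · rw [if_neg hb] at h
          calc (p k * p g) ^ 2 = (p k * p g) * (p k * p g) := pow_two _
            _ = (p k * p g) * (p g * p k) := by rw [h]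
            _ = p k * (p g * p g) * p k := by simp [mul_assoc]
            _ = 1 := by rw [hs1, mul_one, hs2]
      rcases lt_or_gt_of_ne hne with hab | hab
      · have h := (key b a hab hy).2
        rwa [show joined b a = joined a b by simp [joined, max_comm, min_comm]] at h
      · exact (key a b hab hx).1
    · simp only [Cfsg.Spor.Fi24.extra, List.mem_cons, List.not_mem_nil, or_false, Set.mem_setOf_eq] at hr
      have hrev : ∀ g < 12, (p g)⁻¹ = p g := fun g hg => Cert.perm_inv hA hg
      rcases hr with rfl | rfl
      · simp only [map_mul, map_inv, map_pow, FreeGroup.lift_apply_of, col, ← inv_pow, mul_inv_rev,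
          hrev 2 (by omega), hrev 3 (by omega), hrev 4 (by omega), hrev 5 (by omega), hrev 6 (by omega),
          hrev 7 (by omega), hrev 10 (by omega)]
        simpa only [cox, List.map_cons, List.map_nil, List.prod_cons, List.prod_nil, mul_one, mul_assoc]
          using hrel1
      · simp only [map_mul, map_pow, FreeGroup.lift_apply_of, col]
        simpa only [spider, List.map_cons, List.map_nil, List.prod_cons, List.prod_nil, mul_one, mul_assoc]
          using hrel2
  let ρ : G →* Equiv.Perm (Fin 306936) := PresentedGroup.toGroup hrel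
  have hρ : ∀ g < 12, ρ (xg g) = p g := fun g hg => by
    rw [xg, PresentedGroup.toGroup.of, col_genOf g hg]
  have hscan : ∀ l : List ℕ, (∀ g ∈ l, g < 12) → ∀ i : Fin 306936,
      ((ρ (l.map xg).prod)⁻¹ i).1 = Cert.scanT table l i.1 := by
    intro l hl i
    rw [map_list_prod, List.map_map, show l.map (ρ ∘ xg) = l.map p from
      List.map_congr_left fun g hg => hρ g (hl g hg)]
    exact Cert.prod_inv_apply hA l hl i
  have hH : ∀ g < 12, inH g = true → xg g ∈ H := fun g hg h =>
    Subgroup.subset_closure ⟨g, hg, fun e => by subst e; exact absurd h (by decide), rfl⟩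
  have hR : ∀ k < 288, rotTree.lookup (fun n _ => n) k = Cert.code (rots.getD k []) := fun k hk =>
    Nat.eq_of_beq_eq_true (allBelow_iff.1 rotTree_ok k hk)
  have hedge := Cert.edge_sound (φ := xg) (H := H) (fun g hg => xg_sq hg) hH hR rots_one hE hT
  have hcov := fun x => Cert.covers (φ := xg) (H := H) (by omega : 0 < 306936) gen_closure
    (fun g hg => xg_sq hg) hedge x
  have hidx := CosetEnum.index_le_of_covers (H := H)
    (fun i : Fin 306936 => Cert.rep xg tree i.1) fun x => by
    obtain ⟨i, hi, hx⟩ := hcov x
    exact ⟨⟨i, hi⟩, hx⟩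
  have hle : ∀ x ∈ H, ρ x ⟨0, by omega⟩ = (⟨0, by omega⟩ : Fin 306936) := by
    intro x hx
    induction hx using Subgroup.closure_induction with
    | mem y hy =>
      obtain ⟨g, hg, hg1, rfl⟩ := hy
      rw [hρ g hg]
      apply Fin.ext
      rw [Cert.perm_apply hA hg]
      exact (show ∀ g < 12, g ≠ 1 → Cert.tget table 0 g = 0 by decide +kernel) g hg hg1
    | one => simp
    | mul a b _ _ ha hb => rw [map_mul, Equiv.Perm.mul_apply, hb, ha]
    | inv a _ ha => rw [map_inv, Equiv.Perm.inv_def, Equiv.symm_apply_eq, ha]
  have htr : ∀ i, ∃ x, ρ x ⟨0, by omega⟩ = (i : Fin 306936) := by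
    rintro ⟨i, hi⟩
    induction i using Nat.strong_induction_on with
    | _ i ih =>
      rcases Nat.eq_zero_or_pos i with rfl | hpos
      · exact ⟨1, by simp⟩
      have h := allBelow_iff.1 hT i hi
      simp only [Cert.treeAt, force_eq, Bool.or_eq_true, Bool.and_eq_true, Nat.beq_eq, Nat.blt_eq] at h
      rcases h with h | ⟨⟨hlt, hg⟩, ht⟩
      · omega
      change Cert.parent tree i / 16 < i at hlt
      change Cert.parent tree i % 16 < 12 at hg
      obtain ⟨x, hx⟩ := ih _ hlt (by omega)
      refine ⟨xg (Cert.parent tree i % 16) * x, ?_⟩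
      rw [map_mul, Equiv.Perm.mul_apply, hx, hρ _ hg]
      apply Fin.ext
      rw [Cert.perm_apply hA hg]
      exact ht
  obtain ⟨h1, h2⟩ := CosetEnum.eq_stabilizer ρ (⟨0, by omega⟩ : Fin 306936) hle htr
    (by simpa using hidx.2) hidx.1
  exact ⟨ρ, hscan, h2, htr, by simpa using h1⟩

end Cfsg.Agent.Lib.Fi24
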