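import Cfsg.Agent.Lib.Fi24.Class

/-!
Fi23 in the presented Fi24: the even part of each transposition centraliser.
-/

set_option autoImplicit false
set_option maxRecDepth 20000

namespace Cfsg.Agent.Lib.Fi24.Out

open Cfsg.Agent.Lib

/-- The even part of the point stabiliser is Fi23. -/
theorem isFi23_inf : Cfsg.IsFi23 ↥(H ⊓ commutator G : Subgroup G) := by
  obtain ⟨F⟩ := nonempty_gFacts
  have := F.finite
  obtain ⟨σ, hσ, hker⟩ := F.toFi23
  obtain ⟨hs, hc⟩ := Cfsg.Agent.S1697.result
  let f : ↥(H ⊓ commutator G : Subgroup G) →* Cfsg.Spor.Fi23 := σ.comp (Subgroup.inclusion inf_le_left)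
  have hinj : Function.Injective f := by
    rw [← MonoidHom.ker_eq_bot_iff, eq_bot_iff]
    intro x hx
    rw [Subgroup.mem_bot]
    apply Subtype.ext
    rcases hker (Subgroup.inclusion inf_le_left x) hx with h | h
    · exact h
    · exact absurd (show xg 0 ∈ commutator G from h ▸ x.2.2) F.l_not_mem
  have hcard : Nat.card ↥(H ⊓ commutator G : Subgroup G) = Nat.card Cfsg.Spor.Fi23 := by
    rw [F.card_inf, hc]
  haveI : Finite Cfsg.Spor.Fi23 := Nat.finite_of_card_ne_zero (by rw [hc]; omega)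
  have hb : Function.Bijective f := by
    exact hinj.bijective_of_nat_card_le hcard.ge
  let e : ↥(H ⊓ commutator G : Subgroup G) ≃* Cfsg.Spor.Fi23 := MulEquiv.ofBijective f hb
  exact ⟨e.isSimpleGroup, hcard.trans hc⟩

theorem exists_isFi23_derived : ∃ K : Subgroup ↥(commutator G), Cfsg.IsFi23 ↥K := by
  refine ⟨(H ⊓ commutator G).subgroupOf (commutator G), ?_⟩
  let e := Subgroup.subgroupOfEquivOfLe (H := H ⊓ commutator G) (K := commutator G) inf_le_right
  haveI := isFi23_inf.1
  exact ⟨e.isSimpleGroup, (Nat.card_congr e.toEquiv).trans isFi23_inf.2⟩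

namespace OFacts

variable (F : OFacts)
include F

theorem card_centralizer_tau (p : Fin 306936) :
    Nat.card ↥(Subgroup.centralizer ({tau p.1} : Set G)) = 2 * 4089470473293004800 ∧
      ∃ K : Subgroup G, K ≤ Subgroup.centralizer ({tau p.1} : Set G) ∧ Cfsg.IsFi23 ↥K := by
  obtain ⟨F'⟩ := nonempty_gFacts
  let φ : G →* G := (MulAut.conj (Cert.rep xg tree p.1)⁻¹).toMonoidHom
  have hφ : Function.Injective φ := (MulAut.conj (Cert.rep xg tree p.1)⁻¹).injective
  rw [F.centralizer_tau p]
  refine ⟨(Subgroup.card_map_of_injective hφ).trans F'.cardH,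
    (H ⊓ commutator G).map φ, Subgroup.map_mono inf_le_left, ?_⟩
  let e := (H ⊓ commutator G).equivMapOfInjective φ hφ
  haveI := isFi23_inf.1
  exact ⟨e.symm.isSimpleGroup, (Nat.card_congr e.symm.toEquiv).trans isFi23_inf.2⟩

end OFacts

/-- Fi24 with its class of transpositions, given Held's group inside Fi24'. -/
theorem exists_of_he (hHe : ∃ K : Subgroup ↥(commutator G), Cfsg.IsHe ↥K) :
    ∃ (G : Type) (_ : Group G) (_ : Finite G), Nat.card G = 2 * 1255205709190661721292800 ∧
      ∃ D : Set G, Cfsg.IsThreeTranspositionClass D ∧ Nat.card D = 306936 ∧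
        (∀ d ∈ D, Nat.card (Subgroup.centralizer ({d} : Set G)) = 2 * 4089470473293004800 ∧
          ∃ K : Subgroup G, K ≤ Subgroup.centralizer ({d} : Set G) ∧ Cfsg.IsFi23 K) ∧
        ∃ H : Subgroup G, H.index = 2 ∧ Cfsg.IsFi24' H ∧ (∃ K : Subgroup H, Cfsg.IsFi23 K) ∧
          (∃ K : Subgroup H, Cfsg.IsHe K) := by
  obtain ⟨F⟩ := nonempty_oFacts
  refine ⟨G, inferInstance, finite_G, card_G, transps, F.isThreeTranspositionClass, F.card_transps, ?_,
    commutator G, Cfsg.Agent.S1691.result, isFi24'_derived, exists_isFi23_derived, hHe⟩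
  rintro _ ⟨p, rfl⟩
  exact F.card_centralizer_tau p

end Cfsg.Agent.Lib.Fi24.Out
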