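import Cfsg.Agent.Lib.Fi24.Structure
import Cfsg.Agent.S1697
import Cfsg.Agent.S1691

/-!
# The commutator subgroup of the presented Fi24 is simple

The point stabiliser has orbits of lengths 1, 31671 and 275264, so every normal subgroup is trivial or transitive.
A normal subgroup that meets the stabiliser trivially would be regular with conjugacy classes at most three,
but four primes divide 306936.
-/

set_option autoImplicit false
set_option maxRecDepth 20000

namespace Cfsg.Agent.Lib.Fi24

open Cfsg.Agent.Lib.CosetEnum (allBelow allBelow_iff force_eq)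
open Cfsg.Agent.Lib

attribute [local irreducible] table tree small big subPos bigTree

/-- The base point. -/
def pt0 : Fin 306936 := ⟨0, by omega⟩

/-- What the checks give for the presented group. -/
structure GFacts where
  /-- The action. -/
  act : G →* Equiv.Perm (Fin 306936)
  inj : Function.Injective act
  stab : ∀ x, x ∈ H ↔ act x pt0 = pt0
  trans : ∀ i, ∃ x, act x pt0 = i
  cases : ∀ O : Set (Fin 306936), pt0 ∈ O → (∀ x ∈ H, ∀ i ∈ O, act x i ∈ O) →
    O.ncard = 1 ∨ O.ncard = 31672 ∨ O.ncard = 275265 ∨ O = Set.univ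
  classes : ∀ f : Fin 306936 → ℕ, (∀ x ∈ H, ∀ i, f (act x i) = f i) →
    ∃ a b, ∀ i, i ≠ pt0 → f i = a ∨ f i = b
  card : Nat.card G = 2 * 1255205709190661721292800
  cardH : Nat.card H = 2 * 4089470473293004800
  idx : H.index = 306936
  toFi23 : ∃ σ : H →* Cfsg.Spor.Fi23, Function.Surjective σ ∧ ∀ x : H, σ x = 1 → x.1 = 1 ∨ x.1 = xg 0

theorem gFacts_of_hFacts (hF : HFacts) : Nonempty GFacts := by
  obtain ⟨ρ, σ, hscan, hst, htr, hidx, hσ, hker, hl1, hcard, hfix, hsmall⟩ := hF
  have hgen : ∀ g < 12, ∀ i : Fin 306936, ((ρ (xg g))⁻¹ i).1 = Cert.tget table i.1 g := by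
    intro g hg i
    have h := hscan [g] (by simpa using hg) i
    rw [List.map_cons, List.map_nil, List.prod_cons, List.prod_nil, mul_one] at h
    rw [h]
    exact force_eq _ _
  have hinj : Function.Injective ρ := by
    rw [← MonoidHom.ker_eq_bot_iff, eq_bot_iff]
    intro n hn
    have hn' : ρ n = 1 := hn
    have hnH : n ∈ H := (hst n).2 (by rw [hn', Equiv.Perm.one_apply])
    have h1 := (hker ⟨n, hnH⟩).1 ((hfix _).2 fun m => by rw [show ρ (⟨n, hnH⟩ : H).1 = 1 from hn', Equiv.Perm.one_apply])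
    rcases h1 with h | h
    · exact h
    · exfalso
      change n = xg 0 at h
      have h' := hgen 0 (by omega) ⟨1, by omega⟩
      rw [← h, hn', inv_one, Equiv.Perm.one_apply] at h'
      exact (show Cert.tget table 1 0 ≠ 1 by decide +kernel) h'.symm
  have hbig : ∀ j, j < 275264 → Cert.col19 big j < 306936 ∧
      ∀ hj : Cert.col19 big j < 306936, ∀ hb : Cert.col19 big 0 < 306936,
        ∃ x ∈ H, ρ x ⟨_, hb⟩ = ⟨_, hj⟩ := by
    intro j
    induction j using Nat.strong_induction_on with
    | _ j ih =>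
      intro hj
      have h := allBelow_iff.1 bigAt_ok j hj
      simp only [bigAt, force_eq, Bool.and_eq_true, Bool.or_eq_true, Nat.blt_eq, Nat.beq_eq] at h
      refine ⟨h.1.1, fun hq hb => ?_⟩
      rcases h.2 with h0 | ⟨⟨⟨hlt, hg⟩, hin⟩, ht⟩
      · subst h0
        exact ⟨1, H.one_mem, by rw [map_one, Equiv.Perm.one_apply]⟩
      change Cert.parent bigTree j / 16 < j at hlt
      change Cert.parent bigTree j % 16 < 12 at hg
      obtain ⟨hp, hp'⟩ := ih _ hlt (by omega)
      obtain ⟨x, hx, hxe⟩ := hp' hp hb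
      have hgH : xg (Cert.parent bigTree j % 16) ∈ H := Subgroup.subset_closure
        ⟨_, hg, fun e => by
          change inH (Cert.parent bigTree j % 16) = true at hin
          rw [e] at hin
          exact absurd hin (by decide), rfl⟩
      refine ⟨(xg (Cert.parent bigTree j % 16))⁻¹ * x, H.mul_mem (H.inv_mem hgH) hx, ?_⟩
      rw [map_mul, map_inv, Equiv.Perm.mul_apply, hxe]
      apply Fin.ext
      rw [hgen _ hg]
      exact ht
  have hcases : ∀ i : Fin 306936, i = pt0 ∨ (∃ m, i = emb m) ∨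
      ∃ j, j < 275264 ∧ i.1 = Cert.col19 big j ∧ ∀ m, i ≠ emb m := by
    intro i
    have h := allBelow_iff.1 coverPt_ok i.1 i.2
    simp only [coverPt, force_eq, Bool.and_eq_true, Bool.or_eq_true, Nat.blt_eq, Nat.beq_eq, Nat.ble_eq] at h
    rcases h with h | ⟨hlt, hs⟩ | ⟨⟨hge, hlt⟩, hs⟩
    · exact Or.inl (Fin.ext h)
    · exact Or.inr (Or.inl ⟨⟨_, hlt⟩, Fin.ext hs.symm⟩)
    · refine Or.inr (Or.inr ⟨_, hlt, hs.symm, fun m hm => ?_⟩)
      have h2 := (small_spec m.2).2.2.1
      rw [← show i.1 = Cert.col19 small m.1 from congrArg Fin.val hm] at h2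
      have := m.2
      omega
  have hb0 : Cert.col19 big 0 < 306936 := (hbig 0 (by omega)).1
  have hjoin : ∀ i i' : Fin 306936, i ≠ pt0 → i' ≠ pt0 → ((∃ m, i = emb m) ↔ ∃ m, i' = emb m) →
      ∃ x ∈ H, ρ x i = i' := by
    intro i i' hi hi' hiff
    rcases hcases i with h | ⟨m, rfl⟩ | ⟨j, hj, hje, hjm⟩
    · exact absurd h hi
    · obtain ⟨m', rfl⟩ := hiff.1 ⟨m, rfl⟩
      exact hsmall m m'
    · rcases hcases i' with h | ⟨m', rfl⟩ | ⟨j', hj', hje', -⟩
      · exact absurd h hi'
      · obtain ⟨m, hm⟩ := hiff.2 ⟨m', rfl⟩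
        exact absurd hm (hjm m)
      · have h1 := (hbig j hj).1
        have h2 := (hbig j' hj').1
        obtain ⟨x, hx, hxe⟩ := (hbig j hj).2 h1 hb0
        obtain ⟨x', hx', hxe'⟩ := (hbig j' hj').2 h2 hb0
        refine ⟨x' * x⁻¹, H.mul_mem hx' (H.inv_mem hx), ?_⟩
        rw [show i = ⟨_, h1⟩ from Fin.ext hje, show i' = ⟨_, h2⟩ from Fin.ext hje', ← hxe, ← hxe', map_mul,
          map_inv, Equiv.Perm.mul_apply, Equiv.Perm.inv_def, Equiv.symm_apply_apply]
  have hS : (Set.range emb).ncard = 31671 := by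
    rw [Set.ncard_range_of_injective emb_injective, Nat.card_eq_fintype_card, Fintype.card_fin]
  have h0S : pt0 ∉ Set.range emb := by
    rintro ⟨m, hm⟩
    have := (small_spec m.2).2.1
    rw [show Cert.col19 small m.1 = 0 from congrArg Fin.val hm] at this
    omega
  refine ⟨⟨ρ, hinj, hst, htr, ?_, ?_, ?_, hcard, hidx, σ, hσ, fun x => (hker x).1⟩⟩
  · intro O hO hinv
    by_cases hs : ∃ m, emb m ∈ O
    · obtain ⟨m, hm⟩ := hs
      have hsub : Set.range emb ⊆ O := by
        rintro _ ⟨m', rfl⟩
        obtain ⟨x, hx, hxe⟩ := hsmall m m'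
        rw [← hxe]
        exact hinv x hx _ hm
      by_cases hB : ∃ i ∈ O, i ≠ pt0 ∧ i ∉ Set.range emb
      · obtain ⟨i, hi, hi0, hiS⟩ := hB
        right; right; right
        refine Set.eq_univ_of_forall fun k => ?_
        by_cases hk : k = pt0
        · exact hk ▸ hO
        by_cases hkS : k ∈ Set.range emb
        · exact hsub hkS
        obtain ⟨x, hx, rfl⟩ := hjoin i k hi0 hk
          ⟨fun ⟨m, e⟩ => absurd ⟨m, e.symm⟩ hiS, fun ⟨m, e⟩ => absurd ⟨m, e.symm⟩ hkS⟩
        exact hinv x hx _ hi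
      · right; left
        rw [show O = insert pt0 (Set.range emb) by
          ext k
          constructor
          · intro hk
            by_contra hc
            rw [Set.mem_insert_iff, not_or] at hc
            exact hB ⟨k, hk, hc.1, hc.2⟩
          · rintro (rfl | hk)
            · exact hO
            · exact hsub hk, Set.ncard_insert_of_notMem h0S, hS]
    · have hdis : ∀ k ∈ O, k ∉ Set.range emb := fun k hk ⟨m, e⟩ => hs ⟨m, e ▸ hk⟩
      by_cases hB : ∃ i ∈ O, i ≠ pt0
      · obtain ⟨i, hi, hi0⟩ := hB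
        right; right; left
        rw [show O = (Set.range emb)ᶜ by
          ext k
          constructor
          · exact hdis k
          · intro hkS
            by_cases hk : k = pt0
            · exact hk ▸ hO
            obtain ⟨x, hx, rfl⟩ := hjoin i k hi0 hk
              ⟨fun ⟨m, e⟩ => absurd ⟨m, e.symm⟩ (hdis i hi), fun ⟨m, e⟩ => absurd ⟨m, e.symm⟩ hkS⟩
            exact hinv x hx _ hi, Set.ncard_compl, hS, Nat.card_eq_fintype_card, Fintype.card_fin]
      · left
        rw [show O = {pt0} from Set.eq_singleton_iff_unique_mem.2 ⟨hO, fun k hk => by_contra fun hc => hB ⟨k, hk, hc⟩⟩,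
          Set.ncard_singleton]
  · intro f hf
    refine ⟨f (emb ⟨0, by omega⟩), f ⟨_, hb0⟩, fun i hi => ?_⟩
    rcases hcases i with h | ⟨m, rfl⟩ | ⟨j, hj, hje, -⟩
    · exact absurd h hi
    · obtain ⟨x, hx, hxe⟩ := hsmall ⟨0, by omega⟩ m
      left
      rw [← hxe, hf x hx]
    · have h1 := (hbig j hj).1
      obtain ⟨x, hx, hxe⟩ := (hbig j hj).2 h1 hb0
      right
      rw [show i = ⟨_, h1⟩ from Fin.ext hje, ← hxe, hf x hx]
  · rw [← H.card_mul_index, hcard, hidx]

namespace GFacts

variable (F : GFacts)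
include F

theorem finite : Finite G := Nat.finite_of_card_ne_zero (by rw [F.card]; omega)

/-- A normal subgroup other than the trivial one is transitive. -/
theorem normal_transitive (N : Subgroup G) [N.Normal] (hN : N ≠ ⊥) : ∀ i, ∃ n ∈ N, F.act n pt0 = i := by
  have := F.finite
  let O : Set (Fin 306936) := {i | ∃ n ∈ N, F.act n pt0 = i}
  have hO : pt0 ∈ O := ⟨1, N.one_mem, by rw [map_one, Equiv.Perm.one_apply]⟩
  have hinv : ∀ x ∈ H, ∀ i ∈ O, F.act x i ∈ O := by
    rintro x hx _ ⟨n, hn, rfl⟩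
    refine ⟨x * n * x⁻¹, ‹N.Normal›.conj_mem n hn x, ?_⟩
    rw [map_mul, map_mul, Equiv.Perm.mul_apply, Equiv.Perm.mul_apply, (F.stab x⁻¹).1 (H.inv_mem hx)]
  have hdvd : O.ncard * Nat.card H ∣ Nat.card G := by
    let K := N ⊔ H
    letI : MulAction K (Fin 306936) := MulAction.compHom _ (F.act.comp K.subtype)
    have hHK : H ≤ K := le_sup_right
    have hst : MulAction.stabilizer K pt0 = H.subgroupOf K := by
      ext k
      exact (F.stab k.1).symm
    have horb : MulAction.orbit K pt0 = O := by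
      ext i
      constructor
      · rintro ⟨⟨k, hk⟩, rfl⟩
        obtain ⟨n, hn, h, hh, rfl⟩ := (Subgroup.mem_sup_of_normal_left (s := N) (t := H)).1 hk
        refine ⟨n, hn, ?_⟩
        change _ = F.act (n * h) pt0
        rw [map_mul, Equiv.Perm.mul_apply, (F.stab h).1 hh]
      · rintro ⟨n, hn, rfl⟩
        exact ⟨⟨n, Subgroup.mem_sup_left hn⟩, rfl⟩
    have h := (MulAction.stabilizer K pt0).card_mul_index
    rw [MulAction.index_stabilizer, horb, hst,
      Nat.card_congr (Subgroup.subgroupOfEquivOfLe hHK).toEquiv, mul_comm] at h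
    rw [h]
    exact K.card_subgroup_dvd_card
  rw [F.card, F.cardH] at hdvd
  rcases F.cases O hO hinv with h | h | h | h
  · exfalso
    apply hN
    rw [eq_bot_iff]
    intro n hn
    apply Subgroup.mem_bot.2
    apply F.inj
    rw [map_one]
    ext i
    obtain ⟨x, rfl⟩ := F.trans i
    have hmem : F.act (x⁻¹ * n * x) pt0 ∈ O := ⟨_, by
      simpa using ‹N.Normal›.conj_mem n hn x⁻¹, rfl⟩
    obtain ⟨a, ha⟩ := Set.ncard_eq_one.1 h
    rw [ha] at hmem hO
    rw [Set.mem_singleton_iff] at hmem hO
    rw [← hO, map_mul, map_mul, map_inv, Equiv.Perm.mul_apply, Equiv.Perm.mul_apply, Equiv.Perm.inv_def,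
      Equiv.symm_apply_eq] at hmem
    rw [hmem]; rfl
  · rw [h] at hdvd; exact absurd hdvd (by decide +kernel)
  · rw [h] at hdvd; exact absurd hdvd (by decide +kernel)
  · intro i
    have : i ∈ O := h ▸ Set.mem_univ i
    exact this

/-- A transitive subgroup has order 306936 times that of its stabiliser. -/
theorem card_of_transitive (N : Subgroup G) (hN : ∀ i, ∃ n ∈ N, F.act n pt0 = i) :
    Nat.card (H ⊓ N : Subgroup G) * 306936 = Nat.card N := by
  have := F.finite
  letI : MulAction N (Fin 306936) := MulAction.compHom _ (F.act.comp N.subtype)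
  have hst : MulAction.stabilizer N pt0 = (H ⊓ N).subgroupOf N := by
    ext k
    exact ⟨fun hk => ⟨(F.stab k.1).2 hk, k.2⟩, fun hk => (F.stab k.1).1 hk.1⟩
  have horb : MulAction.orbit N pt0 = Set.univ :=
    Set.eq_univ_of_forall fun i => by
      obtain ⟨n, hn, rfl⟩ := hN i
      exact ⟨⟨n, hn⟩, rfl⟩
  have h := (MulAction.stabilizer N pt0).card_mul_index
  rwa [MulAction.index_stabilizer, horb, Set.ncard_univ, Nat.card_eq_fintype_card (α := Fin 306936),
    Fintype.card_fin, hst, Nat.card_congr (Subgroup.subgroupOfEquivOfLe inf_le_right).toEquiv] at h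

theorem derived_index : (commutator G).index = 2 := Cfsg.Agent.S1691.result

theorem l_not_mem : xg 0 ∉ commutator G := by
  intro h
  have h1 : commutator G ≤ (Cfsg.Agent.S1691.parity).ker := by
    rw [commutator_def, Subgroup.commutator_le]
    intro a _ b _
    rw [MonoidHom.mem_ker, map_commutatorElement, commutatorElement_eq_one_iff_mul_comm]
    exact mul_comm _ _
  have h2 : Cfsg.Agent.S1691.parity (xg 0) = 1 := h1 h
  rw [xg, Cfsg.Agent.S1691.parity, PresentedGroup.toGroup.of] at h2
  exact absurd h2 (by decide)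

theorem card_derived : Nat.card (commutator G) = 1255205709190661721292800 := by
  have h := (commutator G).card_mul_index
  rw [F.derived_index, F.card] at h
  omega

theorem derived_ne_bot : commutator G ≠ ⊥ := fun h => by
  have := F.card_derived
  rw [h, Subgroup.card_bot] at this
  omega

theorem card_inf : Nat.card (H ⊓ commutator G : Subgroup G) = 4089470473293004800 := by
  have h := F.card_of_transitive (commutator G) (F.normal_transitive _ F.derived_ne_bot)
  rw [F.card_derived, show (1255205709190661721292800 : ℕ) = 4089470473293004800 * 306936 by norm_num] at h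
  exact Nat.eq_of_mul_eq_mul_right (by norm_num) h

/-- The only normal subgroups of the whole group inside the derived subgroup are trivial. -/
theorem normal_le_derived (M : Subgroup G) [M.Normal] (hM : M ≤ commutator G) :
    M = ⊥ ∨ M = commutator G := by
  refine or_iff_not_imp_left.2 fun hne => ?_
  have := F.finite
  have hcard := F.card_of_transitive M (F.normal_transitive M hne)
  obtain ⟨σ, hσ, hker⟩ := F.toFi23
  have hinj : ∀ x : H, x.1 ∈ commutator G → σ x = 1 → x = 1 := fun x hx h1 => by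
    rcases hker x h1 with h | h
    · exact Subtype.ext h
    · rw [h] at hx; exact absurd hx F.l_not_mem
  let K0 := (commutator G).subgroupOf H
  have hK0 : Nat.card K0 = 4089470473293004800 := by
    show Nat.card ((commutator G).subgroupOf H) = _
    rw [← Subgroup.inf_subgroupOf_left, Nat.card_congr (Subgroup.subgroupOfEquivOfLe inf_le_left).toEquiv]
    exact F.card_inf
  have : IsSimpleGroup Cfsg.Spor.Fi23 := Cfsg.Agent.S1697.result.1
  rcases (Subgroup.Normal.map (inferInstance : (M.subgroupOf H).Normal) σ hσ).eq_bot_or_eq_top with h | h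
  · exfalso
    -- regular: conjugation gives at most two further element orders
    have hbot : ∀ x ∈ H, x ∈ M → x = 1 := fun x hx hxM => by
      have h1 : σ ⟨x, hx⟩ = 1 := by
        rw [← Subgroup.mem_bot, ← h]
        exact ⟨⟨x, hx⟩, hxM, rfl⟩
      exact congrArg Subtype.val (hinj ⟨x, hx⟩ (hM hxM) h1)
    have hMcard : Nat.card M = 306936 := by
      have : H ⊓ M = ⊥ := eq_bot_iff.2 fun x hx => Subgroup.mem_bot.2 (hbot x hx.1 hx.2)
      rw [this, Subgroup.card_bot, one_mul] at hcard
      exact hcard.symm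
    choose m hm hme using F.normal_transitive M hne
    have huniq : ∀ a b, a ∈ M → b ∈ M → F.act a pt0 = F.act b pt0 → a = b := fun a b ha hb he => by
      have h1 := hbot (b⁻¹ * a) ((F.stab _).2 (by
        rw [map_mul, Equiv.Perm.mul_apply, he, map_inv, Equiv.Perm.inv_def, Equiv.symm_apply_apply]))
        (M.mul_mem (M.inv_mem hb) ha)
      exact (inv_mul_eq_one.1 h1).symm
    obtain ⟨a, b, hab⟩ := F.classes (fun i => orderOf (m i)) fun x hx i => by
      have hmem : x * m i * x⁻¹ ∈ M := ‹M.Normal›.conj_mem _ (hm i) x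
      have he : m (F.act x i) = x * m i * x⁻¹ := huniq _ _ (hm _) hmem (by
        rw [hme, map_mul, map_mul, Equiv.Perm.mul_apply, Equiv.Perm.mul_apply,
          (F.stab x⁻¹).1 (H.inv_mem hx), hme])
      show orderOf (m (F.act x i)) = orderOf (m i)
      rw [he]
      exact (MulEquiv.orderOf_eq (MulAut.conj x) (m i))
    have key : ∀ p : ℕ, p.Prime → p ∣ 306936 → p = a ∨ p = b := by
      intro p hp hpd
      haveI : Fact p.Prime := ⟨hp⟩
      obtain ⟨y, hy⟩ := exists_prime_orderOf_dvd_card' (G := M) p (hMcard.symm ▸ hpd)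
      have hy' : orderOf y.1 = p := by rw [Subgroup.orderOf_coe, hy]
      have hi : F.act y.1 pt0 ≠ pt0 := fun e => hp.ne_one (by
        rw [← hy', hbot _ ((F.stab _).2 e) y.2, orderOf_one])
      have := hab _ hi
      rwa [huniq _ _ (hm _) y.2 (hme _), hy'] at this
    have h2 := key 2 Nat.prime_two (by norm_num)
    have h3 := key 3 Nat.prime_three (by norm_num)
    have h7 := key 7 (by norm_num) (by norm_num)
    omega
  · have hsub : (M.subgroupOf H) = K0 := by
      apply Subgroup.eq_of_le_of_card_ge (show M.subgroupOf H ≤ K0 from fun x hx => hM hx)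
      have h1 := Nat.le_of_dvd Nat.card_pos (Subgroup.card_map_dvd (M.subgroupOf H) σ)
      rw [h, Subgroup.card_top] at h1
      rw [hK0, ← Cfsg.Agent.S1697.result.2]
      exact h1
    apply Subgroup.eq_of_le_of_card_ge hM
    rw [← hcard, show Nat.card (H ⊓ M : Subgroup G) = Nat.card (M.subgroupOf H) by
      rw [← Subgroup.inf_subgroupOf_left, Nat.card_congr (Subgroup.subgroupOfEquivOfLe inf_le_left).toEquiv],
      hsub, hK0, F.card_derived]

/-- The derived subgroup is simple. -/
theorem simple : IsSimpleGroup (commutator G) := by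
  have := F.finite
  have : Nontrivial (commutator G) := (Subgroup.nontrivial_iff_ne_bot _).2 F.derived_ne_bot
  refine ⟨fun S hS => ?_⟩
  let T : Subgroup G := S.map (commutator G).subtype
  have hTle : T ≤ commutator G := Subgroup.map_subtype_le S
  have hTconj : ∀ g ∈ commutator G, ∀ t ∈ T, g * t * g⁻¹ ∈ T := by
    rintro g hg _ ⟨s, hs, rfl⟩
    exact ⟨⟨g, hg⟩ * s * ⟨g, hg⟩⁻¹, hS.conj_mem s hs _, rfl⟩
  let T' : Subgroup G := T.map (MulAut.conj (xg 0)).toMonoidHom
  have hmem' : ∀ x, x ∈ T' ↔ xg 0 * x * xg 0 ∈ T := by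
    intro x
    have hl : (xg 0)⁻¹ = xg 0 := xg_inv (by omega)
    constructor
    · rintro ⟨t, ht, rfl⟩
      change xg 0 * (xg 0 * t * (xg 0)⁻¹) * xg 0 ∈ T
      rw [hl]
      convert ht using 1
      rw [← mul_assoc, ← mul_assoc, xg_sq (show 0 < 12 by omega), one_mul, mul_assoc,
        xg_sq (show 0 < 12 by omega), mul_one]
      rfl
    · intro hx
      refine ⟨_, hx, ?_⟩
      change xg 0 * (xg 0 * x * xg 0) * (xg 0)⁻¹ = x
      rw [← mul_assoc (xg 0), ← mul_assoc (xg 0) (xg 0), xg_sq (show 0 < 12 by omega), one_mul,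
        mul_inv_cancel_right]
  have hll : ∀ x : G, xg 0 * (xg 0 * x * xg 0) * xg 0 = x := fun x => by
    rw [← mul_assoc, ← mul_assoc, xg_sq (show 0 < 12 by omega), one_mul, mul_assoc,
      xg_sq (show 0 < 12 by omega), mul_one]
  have hcm : (commutator G).Normal := inferInstance
  have hT'le : T' ≤ commutator G := fun x hx => by
    have h := hcm.conj_mem _ (hTle ((hmem' x).1 hx)) (xg 0)
    rwa [xg_inv (show 0 < 12 by omega), hll] at h
  have hT'conj : ∀ g ∈ commutator G, ∀ t ∈ T', g * t * g⁻¹ ∈ T' := by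
    intro g hg t ht
    rw [hmem'] at ht ⊢
    have hg' : xg 0 * g * xg 0 ∈ commutator G := by
      have h := hcm.conj_mem g hg (xg 0)
      rwa [xg_inv (show 0 < 12 by omega)] at h
    have h := hTconj _ hg' _ ht
    convert h using 1
    rw [mul_inv_rev, mul_inv_rev, xg_inv (show 0 < 12 by omega)]
    simp only [mul_assoc]
    simp only [← mul_assoc (xg 0) (xg 0), xg_sq (show 0 < 12 by omega), one_mul]
  have hnormal : ∀ U : Subgroup G, (∀ g ∈ commutator G, ∀ t ∈ U, g * t * g⁻¹ ∈ U) →
      (∀ t ∈ U, xg 0 * t * xg 0 ∈ U) → U.Normal := by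
    intro U hU hl
    refine ⟨fun t ht g => ?_⟩
    by_cases hg : g ∈ commutator G
    · exact hU g hg t ht
    · have hg' : g * xg 0 ∈ commutator G :=
        (Subgroup.mul_mem_iff_of_index_two F.derived_index).2 ⟨fun h => absurd h hg, fun h => absurd h F.l_not_mem⟩
      have h := hU _ hg' _ (hl t ht)
      convert h using 1
      rw [mul_inv_rev, xg_inv (show 0 < 12 by omega)]
      simp only [mul_assoc]
      simp only [← mul_assoc (xg 0) (xg 0), xg_sq (show 0 < 12 by omega), one_mul]
  have hI : (T ⊓ T').Normal := hnormal _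
    (fun g hg t ht => ⟨hTconj g hg t ht.1, hT'conj g hg t ht.2⟩)
    (fun t ht => ⟨(hmem' t).1 ht.2, (hmem' _).2 (by rw [hll]; exact ht.1)⟩)
  have hJ : (T ⊔ T').Normal := by
    have key : ∀ φ : G →* G, (∀ t ∈ T, φ t ∈ T ⊔ T') → (∀ t ∈ T', φ t ∈ T ⊔ T') →
        ∀ t ∈ T ⊔ T', φ t ∈ T ⊔ T' := fun φ h1 h2 => sup_le (c := (T ⊔ T').comap φ) h1 h2
    refine hnormal _ (fun g hg t ht => key (MulAut.conj g).toMonoidHom
      (fun u hu => Subgroup.mem_sup_left (hTconj g hg u hu))
      (fun u hu => Subgroup.mem_sup_right (hT'conj g hg u hu)) t ht) (fun t ht => ?_)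
    have h := key (MulAut.conj (xg 0)).toMonoidHom
      (fun u hu => Subgroup.mem_sup_right ⟨u, hu, rfl⟩)
      (fun u hu => Subgroup.mem_sup_left (by
        change xg 0 * u * (xg 0)⁻¹ ∈ T
        rw [xg_inv (show 0 < 12 by omega)]
        exact (hmem' u).1 hu)) t ht
    change xg 0 * t * (xg 0)⁻¹ ∈ T ⊔ T' at h
    rwa [xg_inv (show 0 < 12 by omega)] at h
  by_cases hT : T = ⊥
  · left
    exact (Subgroup.map_eq_bot_iff_of_injective S (commutator G).subtype_injective).1 hT
  rcases F.normal_le_derived (T ⊓ T') (inf_le_left.trans hTle) with hi | hi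
  swap
  · right
    apply Subgroup.map_injective (commutator G).subtype_injective
    rw [← MonoidHom.range_eq_map, Subgroup.range_subtype]
    exact le_antisymm hTle (hi.symm.le.trans inf_le_left)
  exfalso
  rcases F.normal_le_derived (T ⊔ T') (sup_le hTle hT'le) with hj | hj
  · exact hT (eq_bot_iff.2 (le_sup_left.trans hj.le))
  have hA : (T.subgroupOf (commutator G)).Normal :=
    ⟨fun n hn g => hTconj g.1 g.2 n.1 hn⟩
  have hB : (T'.subgroupOf (commutator G)).Normal :=
    ⟨fun n hn g => hT'conj g.1 g.2 n.1 hn⟩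
  have hsup : T.subgroupOf (commutator G) ⊔ T'.subgroupOf (commutator G) = ⊤ := by
    rw [← Subgroup.subgroupOf_sup hTle hT'le, hj, Subgroup.subgroupOf_self]
  have hdis : Disjoint (T.subgroupOf (commutator G)) (T'.subgroupOf (commutator G)) := by
    rw [disjoint_iff, eq_bot_iff]
    intro x hx
    rw [Subgroup.mem_bot]
    apply Subtype.ext
    show x.1 = 1
    rw [← Subgroup.mem_bot, ← hi]
    exact ⟨hx.1, hx.2⟩
  have hc := (Subgroup.isComplement'_of_disjoint_and_mul_eq_univ hdis
    (by rw [← Subgroup.normal_mul, hsup, Subgroup.coe_top])).card_mul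
  rw [Nat.card_congr (Subgroup.subgroupOfEquivOfLe hTle).toEquiv,
    Nat.card_congr (Subgroup.subgroupOfEquivOfLe hT'le).toEquiv,
    show Nat.card T' = Nat.card T from Subgroup.card_map_of_injective (MulAut.conj (xg 0)).injective,
    F.card_derived] at hc
  have h29 : 29 ∣ Nat.card T * Nat.card T := by rw [hc]; norm_num
  obtain ⟨k, hk⟩ : 29 ∣ Nat.card T := ((by norm_num : Nat.Prime 29).dvd_mul.1 h29).elim id id
  have h841 : 841 ∣ Nat.card T * Nat.card T := ⟨k * k, by rw [hk]; ring⟩
  rw [hc] at h841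
  norm_num at h841

end GFacts

end Cfsg.Agent.Lib.Fi24
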