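import Cfsg.Agent.Lib.Fi24.Checks
import Cfsg.Agent.Lib.Fi24.Simple

/-! The facts about the presented Fi24, with the checks put in. -/

set_option autoImplicit false

namespace Cfsg.Agent.Lib.Fi24

theorem cosetAction : CosetAction := cosetAction_of_points points_ok

theorem hFacts : HFacts := hFacts_of_action cosetAction

theorem nonempty_gFacts : Nonempty GFacts := gFacts_of_hFacts hFacts

/-- The subgroup generated by all generators but `k` has index 306936. -/
theorem index_H : H.index = 306936 := nonempty_gFacts.elim fun F => F.idx

theorem finite_G : Finite G := nonempty_gFacts.elim fun F => F.finite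

theorem card_G : Nat.card G = 2 * 1255205709190661721292800 := nonempty_gFacts.elim fun F => F.card

theorem isFi24'_derived : Cfsg.IsFi24' Cfsg.Spor.Fi24' :=
  nonempty_gFacts.elim fun F => ⟨F.simple, F.card_derived⟩

end Cfsg.Agent.Lib.Fi24
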