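import Cfsg.Agent.Lib.Fi24.Words
import Cfsg.Prelude.Def_Spor_Fi24

/-! The presented Fi24 satisfies the relators of the certificate. -/

set_option autoImplicit false
set_option maxRecDepth 20000

namespace Cfsg.Agent.Lib.Fi24

open Cfsg.Spor (Fi24.Gen coxRelators coxLabel coxNodes)

/-- The relators of the presentation. -/
abbrev pres : Set (FreeGroup Fi24.Gen) :=
  coxRelators Cfsg.Spor.Fi24.edges ∪ {r | r ∈ Cfsg.Spor.Fi24.extra}

/-- The presented Fi24. -/
abbrev G : Type := PresentedGroup pres

/-- The generator of a letter. -/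
def genOf (g : ℕ) : Fi24.Gen := [.l, .k, .a, .b, .c, .d, .e, .f, .g, .j, .h, .i].getD g .l

/-- The letter of a generator. -/
def col (x : Fi24.Gen) : ℕ := match x with
  | .l => 0 | .k => 1 | .a => 2 | .b => 3 | .c => 4 | .d => 5 | .e => 6 | .f => 7 | .g => 8 | .j => 9
  | .h => 10 | .i => 11

theorem col_lt (x : Fi24.Gen) : col x < 12 := by cases x <;> decide

theorem genOf_col (x : Fi24.Gen) : genOf (col x) = x := by cases x <;> rfl

/-- The letters as elements. -/
def xg (g : ℕ) : G := PresentedGroup.of (genOf g)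

/-- Whether two letters are joined, symmetrically. -/
def joined (x y : ℕ) : Bool := Nat.testBit adjM (12 * max x y + min x y)

theorem coxLabel_eq : ∀ x y : Fi24.Gen, coxLabel Cfsg.Spor.Fi24.edges x y =
    if col x = col y then 1 else if joined (col x) (col y) then 3 else 2 := by
  intro x y; cases x <;> cases y <;> decide

theorem mem_nodes (x : Fi24.Gen) : x ∈ coxNodes Cfsg.Spor.Fi24.edges := by cases x <;> decide

theorem cox_rel (x y : Fi24.Gen) :
    ((PresentedGroup.of x : G) * PresentedGroup.of y) ^ coxLabel Cfsg.Spor.Fi24.edges x y = 1 := by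
  have h := PresentedGroup.one_of_mem (rels := pres)
    (x := (FreeGroup.of x * FreeGroup.of y) ^ coxLabel Cfsg.Spor.Fi24.edges x y)
    (Or.inl ⟨x, mem_nodes x, y, mem_nodes y, rfl⟩)
  rwa [map_pow, map_mul] at h

theorem col_genOf : ∀ g < 12, col (genOf g) = g := by decide

theorem xg_pow {g k : ℕ} (hg : g < 12) (hk : k < 12) :
    (xg g * xg k) ^ (if g = k then 1 else if joined g k then 3 else 2) = 1 := by
  have h := cox_rel (genOf g) (genOf k)
  rwa [coxLabel_eq, col_genOf g hg, col_genOf k hk] at h

theorem xg_sq {g : ℕ} (hg : g < 12) : xg g * xg g = 1 := by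
  have h := xg_pow hg hg
  rwa [if_pos rfl, pow_one] at h

theorem xg_inv {g : ℕ} (hg : g < 12) : (xg g)⁻¹ = xg g := inv_eq_of_mul_eq_one_right (xg_sq hg)

theorem prod_reverse {l : List ℕ} (hl : ∀ g ∈ l, g < 12) :
    (l.reverse.map xg).prod = ((l.map xg).prod)⁻¹ := by
  induction l with
  | nil => simp
  | cons a l ih =>
    rw [List.reverse_cons, List.map_append, List.prod_append, ih fun g hg => hl g (List.mem_cons_of_mem _ hg),
      List.map_cons, List.map_cons, List.map_nil, List.prod_cons, List.prod_cons, List.prod_nil, mul_one,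
      mul_inv_rev, xg_inv (hl a List.mem_cons_self)]

theorem prod_replicate (n : ℕ) (l : List ℕ) :
    ((List.replicate n l).flatten.map xg).prod = (l.map xg).prod ^ n := by
  induction n with
  | zero => simp
  | succ n ih => rw [List.replicate_succ, List.flatten_cons, List.map_append, List.prod_append, ih, pow_succ']

theorem extra_rels :
    xg 0 * ((cox.map xg).prod) ^ 9 = 1 ∧ ((spider.map xg).prod) ^ 17 = 1 := by
  constructor
  · have h := PresentedGroup.one_of_mem (rels := pres) (x := Cfsg.Spor.Fi24.extra.getD 0 1)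
      (Or.inr (List.mem_cons_self))
    rw [show cox = [2, 3, 4, 5, 6, 7, 10].reverse from rfl, prod_reverse (by decide), inv_pow]
    simpa [Cfsg.Spor.Fi24.extra, xg, genOf, PresentedGroup.of, mul_assoc] using h
  · have h := PresentedGroup.one_of_mem (rels := pres) (x := Cfsg.Spor.Fi24.extra.getD 1 1)
      (Or.inr (List.mem_cons_of_mem _ List.mem_cons_self))
    simpa [Cfsg.Spor.Fi24.extra, xg, genOf, spider, PresentedGroup.of, mul_assoc] using h

theorem rels_one : ∀ l ∈ rels, (∀ g ∈ l, g < 12) ∧ (l.map xg).prod = 1 := by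
  intro l hl
  refine ⟨(show ∀ l ∈ rels, ∀ g ∈ l, g < 12 by decide +kernel) l hl, ?_⟩
  rcases List.mem_append.1 hl with hl | hl
  · obtain ⟨g, hg, hk⟩ := List.mem_flatMap.1 hl
    obtain ⟨k, hk, rfl⟩ := List.mem_map.1 hk
    have hg := List.mem_range.1 hg
    have hk : k < g := List.mem_range.1 (by assumption)
    have h := xg_pow hg (lt_trans hk hg)
    rw [if_neg (by omega), joined, max_eq_left hk.le, min_eq_right hk.le] at h
    split_ifs at h ⊢ <;> simpa [pow_succ, mul_assoc] using h
  · simp only [List.mem_cons, List.not_mem_nil, or_false] at hl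
    rcases hl with rfl | rfl
    · rw [List.map_cons, List.prod_cons, prod_replicate]; exact extra_rels.1
    · rw [prod_replicate]; exact extra_rels.2

theorem rots_one : ∀ l ∈ rots, (∀ g ∈ l, g < 12) ∧ (l.map xg).prod = 1 := by
  intro l hl
  refine ⟨fun g hg => ?_, ?_⟩
  · have h := rots_lt
    simp only [List.all_eq_true, Nat.blt_eq] at h
    exact h l hl g hg
  obtain ⟨s, hs, rfl⟩ := List.mem_map.1 hl
  have hbase : ((if s.2.1 then (rels.getD s.1 []).reverse else rels.getD s.1 []).map xg).prod = 1 := by
    rcases Nat.lt_or_ge s.1 rels.length with hlt | hge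
    · rw [List.getD_eq_getElem _ _ hlt]
      obtain ⟨h1, h2⟩ := rels_one _ (List.getElem_mem hlt)
      split_ifs
      · rw [prod_reverse h1, h2, inv_one]
      · exact h2
    · rw [List.getD_eq_default _ _ hge]; simp
  rw [← List.rotate_eq_rotate', List.map_rotate]
  exact List.prod_rotate_eq_one_of_prod_eq_one hbase _

theorem gen_closure : Subgroup.closure {x : G | ∃ g < 12, xg g = x} = ⊤ := by
  rw [eq_top_iff, ← PresentedGroup.closure_range_of]
  refine Subgroup.closure_mono ?_
  rintro _ ⟨x, rfl⟩
  exact ⟨col x, col_lt x, by rw [xg, genOf_col]⟩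

/-- The subgroup generated by all letters but `k`. -/
def H : Subgroup G := Subgroup.closure {x : G | ∃ g < 12, g ≠ 1 ∧ xg g = x}

end Cfsg.Agent.Lib.Fi24
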