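import Cfsg.Agent.Lib.Fi24.Words
import Cfsg.Agent.Lib.Fi24.Data.Table
import Cfsg.Agent.Lib.Fi24.Data.Suborbits
import Cfsg.Agent.Lib.CosetEnum.Fi23x31671.Data

/-! The suborbit certificates. -/

set_option autoImplicit false
set_option maxRecDepth 20000
set_option Elab.async false

namespace Cfsg.Agent.Lib.Fi24

open Cfsg.Agent.Lib.CosetEnum (force force_eq allBelow allFrom get32)
open Cfsg.Agent.Lib

/-- Point `m` of Fi23 in the suborbit. -/
noncomputable def smallAt (m : ℕ) : Bool :=
  force (Cert.col19 small m) fun q => Nat.blt q 306936 && Nat.blt 0 q && Nat.beq (Cert.col19 subPos q) m &&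
    Nat.beq (Cert.tget table q 0) q && allBelow 10 fun g =>
      Nat.beq (Cert.tget table q (Nat.add g 2))
        (Cert.col19 small (get32 CosetEnum.Fi23x31671.table (Nat.add (Nat.mul m 10) g)))

/-- Point `j` of the second suborbit is reached from an earlier one. -/
noncomputable def bigAt (j : ℕ) : Bool :=
  force (Cert.col19 big j) fun q => Nat.blt q 306936 && Nat.beq (Cert.col19 subPos q) (Nat.add 31671 j) &&
    (Nat.beq j 0 || force (Cert.parent bigTree j) fun e => force (Nat.mod e 16) fun g =>
      Nat.blt (Nat.div e 16) j && Nat.blt g 12 && inH g &&
        Nat.beq (Cert.tget table (Cert.col19 big (Nat.div e 16)) g) q)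

/-- Every other point is in one of the two suborbits. -/
noncomputable def coverPt (i : ℕ) : Bool :=
  Nat.beq i 0 || force (Cert.col19 subPos i) fun p =>
    (Nat.blt p 31671 && Nat.beq (Cert.col19 small p) i) ||
    (Nat.ble 31671 p && Nat.blt (Nat.sub p 31671) 275264 && Nat.beq (Cert.col19 big (Nat.sub p 31671)) i)

theorem smallAt_part0 : allFrom 0 1500 smallAt = true := by decide +kernel

theorem smallAt_part1 : allFrom 1500 1500 smallAt = true := by decide +kernel

theorem smallAt_part2 : allFrom 3000 1500 smallAt = true := by decide +kernel

theorem smallAt_part3 : allFrom 4500 1500 smallAt = true := by decide +kernel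

theorem smallAt_part4 : allFrom 6000 1500 smallAt = true := by decide +kernel

theorem smallAt_part5 : allFrom 7500 1500 smallAt = true := by decide +kernel

theorem smallAt_part6 : allFrom 9000 1500 smallAt = true := by decide +kernel

theorem smallAt_part7 : allFrom 10500 1500 smallAt = true := by decide +kernel

theorem smallAt_part8 : allFrom 12000 1500 smallAt = true := by decide +kernel

theorem smallAt_part9 : allFrom 13500 1500 smallAt = true := by decide +kernel

theorem smallAt_part10 : allFrom 15000 1500 smallAt = true := by decide +kernel

theorem smallAt_part11 : allFrom 16500 1500 smallAt = true := by decide +kernel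

theorem smallAt_part12 : allFrom 18000 1500 smallAt = true := by decide +kernel

theorem smallAt_part13 : allFrom 19500 1500 smallAt = true := by decide +kernel

theorem smallAt_part14 : allFrom 21000 1500 smallAt = true := by decide +kernel

theorem smallAt_part15 : allFrom 22500 1500 smallAt = true := by decide +kernel

theorem smallAt_part16 : allFrom 24000 1500 smallAt = true := by decide +kernel

theorem smallAt_part17 : allFrom 25500 1500 smallAt = true := by decide +kernel

theorem smallAt_part18 : allFrom 27000 1500 smallAt = true := by decide +kernel

theorem smallAt_part19 : allFrom 28500 1500 smallAt = true := by decide +kernel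

theorem smallAt_part20 : allFrom 30000 1500 smallAt = true := by decide +kernel

theorem smallAt_part21 : allFrom 31500 171 smallAt = true := by decide +kernel

theorem smallAt_ok : allBelow 31671 smallAt = true :=
  (CosetEnum.allBelow_add (CosetEnum.allBelow_add (CosetEnum.allBelow_add (CosetEnum.allBelow_add (CosetEnum.allBelow_add (CosetEnum.allBelow_add (CosetEnum.allBelow_add (CosetEnum.allBelow_add (CosetEnum.allBelow_add (CosetEnum.allBelow_add (CosetEnum.allBelow_add (CosetEnum.allBelow_add (CosetEnum.allBelow_add (CosetEnum.allBelow_add (CosetEnum.allBelow_add (CosetEnum.allBelow_add (CosetEnum.allBelow_add (CosetEnum.allBelow_add (CosetEnum.allBelow_add (CosetEnum.allBelow_add (CosetEnum.allBelow_add (CosetEnum.allBelow_add (rfl : allBelow 0 smallAt = true) smallAt_part0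
    (by omega : 0 + 1500 = 1500)) smallAt_part1
    (by omega : 1500 + 1500 = 3000)) smallAt_part2
    (by omega : 3000 + 1500 = 4500)) smallAt_part3
    (by omega : 4500 + 1500 = 6000)) smallAt_part4
    (by omega : 6000 + 1500 = 7500)) smallAt_part5
    (by omega : 7500 + 1500 = 9000)) smallAt_part6
    (by omega : 9000 + 1500 = 10500)) smallAt_part7
    (by omega : 10500 + 1500 = 12000)) smallAt_part8
    (by omega : 12000 + 1500 = 13500)) smallAt_part9
    (by omega : 13500 + 1500 = 15000)) smallAt_part10
    (by omega : 15000 + 1500 = 16500)) smallAt_part11
    (by omega : 16500 + 1500 = 18000)) smallAt_part12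
    (by omega : 18000 + 1500 = 19500)) smallAt_part13
    (by omega : 19500 + 1500 = 21000)) smallAt_part14
    (by omega : 21000 + 1500 = 22500)) smallAt_part15
    (by omega : 22500 + 1500 = 24000)) smallAt_part16
    (by omega : 24000 + 1500 = 25500)) smallAt_part17
    (by omega : 25500 + 1500 = 27000)) smallAt_part18
    (by omega : 27000 + 1500 = 28500)) smallAt_part19
    (by omega : 28500 + 1500 = 30000)) smallAt_part20
    (by omega : 30000 + 1500 = 31500)) smallAt_part21
    (by omega : 31500 + 171 = 31671))

theorem bigAt_part0 : allFrom 0 6000 bigAt = true := by decide +kernel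

theorem bigAt_part1 : allFrom 6000 6000 bigAt = true := by decide +kernel

theorem bigAt_part2 : allFrom 12000 6000 bigAt = true := by decide +kernel

theorem bigAt_part3 : allFrom 18000 6000 bigAt = true := by decide +kernel

theorem bigAt_part4 : allFrom 24000 6000 bigAt = true := by decide +kernel

theorem bigAt_part5 : allFrom 30000 6000 bigAt = true := by decide +kernel

theorem bigAt_part6 : allFrom 36000 6000 bigAt = true := by decide +kernel

theorem bigAt_part7 : allFrom 42000 6000 bigAt = true := by decide +kernel

theorem bigAt_part8 : allFrom 48000 6000 bigAt = true := by decide +kernel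

theorem bigAt_part9 : allFrom 54000 6000 bigAt = true := by decide +kernel

theorem bigAt_part10 : allFrom 60000 6000 bigAt = true := by decide +kernel

theorem bigAt_part11 : allFrom 66000 6000 bigAt = true := by decide +kernel

theorem bigAt_part12 : allFrom 72000 6000 bigAt = true := by decide +kernel

theorem bigAt_part13 : allFrom 78000 6000 bigAt = true := by decide +kernel

theorem bigAt_part14 : allFrom 84000 6000 bigAt = true := by decide +kernel

theorem bigAt_part15 : allFrom 90000 6000 bigAt = true := by decide +kernel

theorem bigAt_part16 : allFrom 96000 6000 bigAt = true := by decide +kernel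

theorem bigAt_part17 : allFrom 102000 6000 bigAt = true := by decide +kernel

theorem bigAt_part18 : allFrom 108000 6000 bigAt = true := by decide +kernel

theorem bigAt_part19 : allFrom 114000 6000 bigAt = true := by decide +kernel

theorem bigAt_part20 : allFrom 120000 6000 bigAt = true := by decide +kernel

theorem bigAt_part21 : allFrom 126000 6000 bigAt = true := by decide +kernel

theorem bigAt_part22 : allFrom 132000 6000 bigAt = true := by decide +kernel

theorem bigAt_part23 : allFrom 138000 6000 bigAt = true := by decide +kernel

theorem bigAt_part24 : allFrom 144000 6000 bigAt = true := by decide +kernel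

theorem bigAt_part25 : allFrom 150000 6000 bigAt = true := by decide +kernel

theorem bigAt_part26 : allFrom 156000 6000 bigAt = true := by decide +kernel

theorem bigAt_part27 : allFrom 162000 6000 bigAt = true := by decide +kernel

theorem bigAt_part28 : allFrom 168000 6000 bigAt = true := by decide +kernel

theorem bigAt_part29 : allFrom 174000 6000 bigAt = true := by decide +kernel

theorem bigAt_part30 : allFrom 180000 6000 bigAt = true := by decide +kernel

theorem bigAt_part31 : allFrom 186000 6000 bigAt = true := by decide +kernel

theorem bigAt_part32 : allFrom 192000 6000 bigAt = true := by decide +kernel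

theorem bigAt_part33 : allFrom 198000 6000 bigAt = true := by decide +kernel

theorem bigAt_part34 : allFrom 204000 6000 bigAt = true := by decide +kernel

theorem bigAt_part35 : allFrom 210000 6000 bigAt = true := by decide +kernel

theorem bigAt_part36 : allFrom 216000 6000 bigAt = true := by decide +kernel

theorem bigAt_part37 : allFrom 222000 6000 bigAt = true := by decide +kernel

theorem bigAt_part38 : allFrom 228000 6000 bigAt = true := by decide +kernel

theorem bigAt_part39 : allFrom 234000 6000 bigAt = true := by decide +kernel

theorem bigAt_part40 : allFrom 240000 6000 bigAt = true := by decide +kernel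

theorem bigAt_part41 : allFrom 246000 6000 bigAt = true := by decide +kernel

theorem bigAt_part42 : allFrom 252000 6000 bigAt = true := by decide +kernel

theorem bigAt_part43 : allFrom 258000 6000 bigAt = true := by decide +kernel

theorem bigAt_part44 : allFrom 264000 6000 bigAt = true := by decide +kernel

theorem bigAt_part45 : allFrom 270000 5264 bigAt = true := by decide +kernel

theorem bigAt_ok : allBelow 275264 bigAt = true :=
  (CosetEnum.allBelow_add (CosetEnum.allBelow_add (CosetEnum.allBelow_add (CosetEnum.allBelow_add (CosetEnum.allBelow_add (CosetEnum.allBelow_add (CosetEnum.allBelow_add (CosetEnum.allBelow_add (CosetEnum.allBelow_add (CosetEnum.allBelow_add (CosetEnum.allBelow_add (CosetEnum.allBelow_add (CosetEnum.allBelow_add (CosetEnum.allBelow_add (CosetEnum.allBelow_add (CosetEnum.allBelow_add (CosetEnum.allBelow_add (CosetEnum.allBelow_add (CosetEnum.allBelow_add (CosetEnum.allBelow_add (CosetEnum.allBelow_add (CosetEnum.allBelow_add (CosetEnum.allBelow_add (CosetEnum.allBelow_add (CosetEnum.allBelow_add (CosetEnum.allBelow_add (CosetEnum.allBelow_add (CosetEnum.allBelow_add (CosetEnum.allBelow_add (CosetEnum.allBelow_add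 (CosetEnum.allBelow_add (CosetEnum.allBelow_add (CosetEnum.allBelow_add (CosetEnum.allBelow_add (CosetEnum.allBelow_add (CosetEnum.allBelow_add (CosetEnum.allBelow_add (CosetEnum.allBelow_add (CosetEnum.allBelow_add (CosetEnum.allBelow_add (CosetEnum.allBelow_add (CosetEnum.allBelow_add (CosetEnum.allBelow_add (CosetEnum.allBelow_add (CosetEnum.allBelow_add (CosetEnum.allBelow_add (rfl : allBelow 0 bigAt = true) bigAt_part0
    (by omega : 0 + 6000 = 6000)) bigAt_part1
    (by omega : 6000 + 6000 = 12000)) bigAt_part2
    (by omega : 12000 + 6000 = 18000)) bigAt_part3
    (by omega : 18000 + 6000 = 24000)) bigAt_part4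
    (by omega : 24000 + 6000 = 30000)) bigAt_part5
    (by omega : 30000 + 6000 = 36000)) bigAt_part6
    (by omega : 36000 + 6000 = 42000)) bigAt_part7
    (by omega : 42000 + 6000 = 48000)) bigAt_part8
    (by omega : 48000 + 6000 = 54000)) bigAt_part9
    (by omega : 54000 + 6000 = 60000)) bigAt_part10
    (by omega : 60000 + 6000 = 66000)) bigAt_part11
    (by omega : 66000 + 6000 = 72000)) bigAt_part12
    (by omega : 72000 + 6000 = 78000)) bigAt_part13
    (by omega : 78000 + 6000 = 84000)) bigAt_part14
    (by omega : 84000 + 6000 = 90000)) bigAt_part15
    (by omega : 90000 + 6000 = 96000)) bigAt_part16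
    (by omega : 96000 + 6000 = 102000)) bigAt_part17
    (by omega : 102000 + 6000 = 108000)) bigAt_part18
    (by omega : 108000 + 6000 = 114000)) bigAt_part19
    (by omega : 114000 + 6000 = 120000)) bigAt_part20
    (by omega : 120000 + 6000 = 126000)) bigAt_part21
    (by omega : 126000 + 6000 = 132000)) bigAt_part22
    (by omega : 132000 + 6000 = 138000)) bigAt_part23
    (by omega : 138000 + 6000 = 144000)) bigAt_part24
    (by omega : 144000 + 6000 = 150000)) bigAt_part25
    (by omega : 150000 + 6000 = 156000)) bigAt_part26
    (by omega : 156000 + 6000 = 162000)) bigAt_part27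
    (by omega : 162000 + 6000 = 168000)) bigAt_part28
    (by omega : 168000 + 6000 = 174000)) bigAt_part29
    (by omega : 174000 + 6000 = 180000)) bigAt_part30
    (by omega : 180000 + 6000 = 186000)) bigAt_part31
    (by omega : 186000 + 6000 = 192000)) bigAt_part32
    (by omega : 192000 + 6000 = 198000)) bigAt_part33
    (by omega : 198000 + 6000 = 204000)) bigAt_part34
    (by omega : 204000 + 6000 = 210000)) bigAt_part35
    (by omega : 210000 + 6000 = 216000)) bigAt_part36
    (by omega : 216000 + 6000 = 222000)) bigAt_part37
    (by omega : 222000 + 6000 = 228000)) bigAt_part38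
    (by omega : 228000 + 6000 = 234000)) bigAt_part39
    (by omega : 234000 + 6000 = 240000)) bigAt_part40
    (by omega : 240000 + 6000 = 246000)) bigAt_part41
    (by omega : 246000 + 6000 = 252000)) bigAt_part42
    (by omega : 252000 + 6000 = 258000)) bigAt_part43
    (by omega : 258000 + 6000 = 264000)) bigAt_part44
    (by omega : 264000 + 6000 = 270000)) bigAt_part45
    (by omega : 270000 + 5264 = 275264))

theorem coverPt_part0 : allFrom 0 6000 coverPt = true := by decide +kernel

theorem coverPt_part1 : allFrom 6000 6000 coverPt = true := by decide +kernel

theorem coverPt_part2 : allFrom 12000 6000 coverPt = true := by decide +kernel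

theorem coverPt_part3 : allFrom 18000 6000 coverPt = true := by decide +kernel

theorem coverPt_part4 : allFrom 24000 6000 coverPt = true := by decide +kernel

theorem coverPt_part5 : allFrom 30000 6000 coverPt = true := by decide +kernel

theorem coverPt_part6 : allFrom 36000 6000 coverPt = true := by decide +kernel

theorem coverPt_part7 : allFrom 42000 6000 coverPt = true := by decide +kernel

theorem coverPt_part8 : allFrom 48000 6000 coverPt = true := by decide +kernel

theorem coverPt_part9 : allFrom 54000 6000 coverPt = true := by decide +kernel

theorem coverPt_part10 : allFrom 60000 6000 coverPt = true := by decide +kernel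

theorem coverPt_part11 : allFrom 66000 6000 coverPt = true := by decide +kernel

theorem coverPt_part12 : allFrom 72000 6000 coverPt = true := by decide +kernel

theorem coverPt_part13 : allFrom 78000 6000 coverPt = true := by decide +kernel

theorem coverPt_part14 : allFrom 84000 6000 coverPt = true := by decide +kernel

theorem coverPt_part15 : allFrom 90000 6000 coverPt = true := by decide +kernel

theorem coverPt_part16 : allFrom 96000 6000 coverPt = true := by decide +kernel

theorem coverPt_part17 : allFrom 102000 6000 coverPt = true := by decide +kernel

theorem coverPt_part18 : allFrom 108000 6000 coverPt = true := by decide +kernel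

theorem coverPt_part19 : allFrom 114000 6000 coverPt = true := by decide +kernel

theorem coverPt_part20 : allFrom 120000 6000 coverPt = true := by decide +kernel

theorem coverPt_part21 : allFrom 126000 6000 coverPt = true := by decide +kernel

theorem coverPt_part22 : allFrom 132000 6000 coverPt = true := by decide +kernel

theorem coverPt_part23 : allFrom 138000 6000 coverPt = true := by decide +kernel

theorem coverPt_part24 : allFrom 144000 6000 coverPt = true := by decide +kernel

theorem coverPt_part25 : allFrom 150000 6000 coverPt = true := by decide +kernel

theorem coverPt_part26 : allFrom 156000 6000 coverPt = true := by decide +kernel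

theorem coverPt_part27 : allFrom 162000 6000 coverPt = true := by decide +kernel

theorem coverPt_part28 : allFrom 168000 6000 coverPt = true := by decide +kernel

theorem coverPt_part29 : allFrom 174000 6000 coverPt = true := by decide +kernel

theorem coverPt_part30 : allFrom 180000 6000 coverPt = true := by decide +kernel

theorem coverPt_part31 : allFrom 186000 6000 coverPt = true := by decide +kernel

theorem coverPt_part32 : allFrom 192000 6000 coverPt = true := by decide +kernel

theorem coverPt_part33 : allFrom 198000 6000 coverPt = true := by decide +kernel

theorem coverPt_part34 : allFrom 204000 6000 coverPt = true := by decide +kernel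

theorem coverPt_part35 : allFrom 210000 6000 coverPt = true := by decide +kernel

theorem coverPt_part36 : allFrom 216000 6000 coverPt = true := by decide +kernel

theorem coverPt_part37 : allFrom 222000 6000 coverPt = true := by decide +kernel

theorem coverPt_part38 : allFrom 228000 6000 coverPt = true := by decide +kernel

theorem coverPt_part39 : allFrom 234000 6000 coverPt = true := by decide +kernel

theorem coverPt_part40 : allFrom 240000 6000 coverPt = true := by decide +kernel

theorem coverPt_part41 : allFrom 246000 6000 coverPt = true := by decide +kernel

theorem coverPt_part42 : allFrom 252000 6000 coverPt = true := by decide +kernel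

theorem coverPt_part43 : allFrom 258000 6000 coverPt = true := by decide +kernel

theorem coverPt_part44 : allFrom 264000 6000 coverPt = true := by decide +kernel

theorem coverPt_part45 : allFrom 270000 6000 coverPt = true := by decide +kernel

theorem coverPt_part46 : allFrom 276000 6000 coverPt = true := by decide +kernel

theorem coverPt_part47 : allFrom 282000 6000 coverPt = true := by decide +kernel

theorem coverPt_part48 : allFrom 288000 6000 coverPt = true := by decide +kernel

theorem coverPt_part49 : allFrom 294000 6000 coverPt = true := by decide +kernel

theorem coverPt_part50 : allFrom 300000 6000 coverPt = true := by decide +kernel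

theorem coverPt_part51 : allFrom 306000 936 coverPt = true := by decide +kernel

theorem coverPt_ok : allBelow 306936 coverPt = true :=
  (CosetEnum.allBelow_add (CosetEnum.allBelow_add (CosetEnum.allBelow_add (CosetEnum.allBelow_add (CosetEnum.allBelow_add (CosetEnum.allBelow_add (CosetEnum.allBelow_add (CosetEnum.allBelow_add (CosetEnum.allBelow_add (CosetEnum.allBelow_add (CosetEnum.allBelow_add (CosetEnum.allBelow_add (CosetEnum.allBelow_add (CosetEnum.allBelow_add (CosetEnum.allBelow_add (CosetEnum.allBelow_add (CosetEnum.allBelow_add (CosetEnum.allBelow_add (CosetEnum.allBelow_add (CosetEnum.allBelow_add (CosetEnum.allBelow_add (CosetEnum.allBelow_add (CosetEnum.allBelow_add (CosetEnum.allBelow_add (CosetEnum.allBelow_add (CosetEnum.allBelow_add (CosetEnum.allBelow_add (CosetEnum.allBelow_add (CosetEnum.allBelow_add (CosetEnum.allBelow_add (CosetEnum.allBelow_add (CosetEnum.allBelow_add (CosetEnum.allBelow_add (CosetEnum.allBelow_add (CosetEnum.allBelow_add (CosetEnum.allBelow_add (CosetEnum.allBelow_add (CosetEnum.allBelow_add (CosetEnum.allBelow_add (CosetEnum.allBelow_add (CosetEnum.allBelow_add (CosetEnum.allBelow_add (CosetEnum.allBelow_add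 (CosetEnum.allBelow_add (CosetEnum.allBelow_add (CosetEnum.allBelow_add (CosetEnum.allBelow_add (CosetEnum.allBelow_add (CosetEnum.allBelow_add (CosetEnum.allBelow_add (CosetEnum.allBelow_add (CosetEnum.allBelow_add (rfl : allBelow 0 coverPt = true) coverPt_part0
    (by omega : 0 + 6000 = 6000)) coverPt_part1
    (by omega : 6000 + 6000 = 12000)) coverPt_part2
    (by omega : 12000 + 6000 = 18000)) coverPt_part3
    (by omega : 18000 + 6000 = 24000)) coverPt_part4
    (by omega : 24000 + 6000 = 30000)) coverPt_part5
    (by omega : 30000 + 6000 = 36000)) coverPt_part6
    (by omega : 36000 + 6000 = 42000)) coverPt_part7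
    (by omega : 42000 + 6000 = 48000)) coverPt_part8
    (by omega : 48000 + 6000 = 54000)) coverPt_part9
    (by omega : 54000 + 6000 = 60000)) coverPt_part10
    (by omega : 60000 + 6000 = 66000)) coverPt_part11
    (by omega : 66000 + 6000 = 72000)) coverPt_part12
    (by omega : 72000 + 6000 = 78000)) coverPt_part13
    (by omega : 78000 + 6000 = 84000)) coverPt_part14
    (by omega : 84000 + 6000 = 90000)) coverPt_part15
    (by omega : 90000 + 6000 = 96000)) coverPt_part16
    (by omega : 96000 + 6000 = 102000)) coverPt_part17
    (by omega : 102000 + 6000 = 108000)) coverPt_part18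
    (by omega : 108000 + 6000 = 114000)) coverPt_part19
    (by omega : 114000 + 6000 = 120000)) coverPt_part20
    (by omega : 120000 + 6000 = 126000)) coverPt_part21
    (by omega : 126000 + 6000 = 132000)) coverPt_part22
    (by omega : 132000 + 6000 = 138000)) coverPt_part23
    (by omega : 138000 + 6000 = 144000)) coverPt_part24
    (by omega : 144000 + 6000 = 150000)) coverPt_part25
    (by omega : 150000 + 6000 = 156000)) coverPt_part26
    (by omega : 156000 + 6000 = 162000)) coverPt_part27
    (by omega : 162000 + 6000 = 168000)) coverPt_part28
    (by omega : 168000 + 6000 = 174000)) coverPt_part29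
    (by omega : 174000 + 6000 = 180000)) coverPt_part30
    (by omega : 180000 + 6000 = 186000)) coverPt_part31
    (by omega : 186000 + 6000 = 192000)) coverPt_part32
    (by omega : 192000 + 6000 = 198000)) coverPt_part33
    (by omega : 198000 + 6000 = 204000)) coverPt_part34
    (by omega : 204000 + 6000 = 210000)) coverPt_part35
    (by omega : 210000 + 6000 = 216000)) coverPt_part36
    (by omega : 216000 + 6000 = 222000)) coverPt_part37
    (by omega : 222000 + 6000 = 228000)) coverPt_part38
    (by omega : 228000 + 6000 = 234000)) coverPt_part39
    (by omega : 234000 + 6000 = 240000)) coverPt_part40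
    (by omega : 240000 + 6000 = 246000)) coverPt_part41
    (by omega : 246000 + 6000 = 252000)) coverPt_part42
    (by omega : 252000 + 6000 = 258000)) coverPt_part43
    (by omega : 258000 + 6000 = 264000)) coverPt_part44
    (by omega : 264000 + 6000 = 270000)) coverPt_part45
    (by omega : 270000 + 6000 = 276000)) coverPt_part46
    (by omega : 276000 + 6000 = 282000)) coverPt_part47
    (by omega : 282000 + 6000 = 288000)) coverPt_part48
    (by omega : 288000 + 6000 = 294000)) coverPt_part49
    (by omega : 294000 + 6000 = 300000)) coverPt_part50
    (by omega : 300000 + 6000 = 306000)) coverPt_part51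
    (by omega : 306000 + 936 = 306936))

end Cfsg.Agent.Lib.Fi24
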