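import Cfsg.Agent.Lib.Fi24.Coset
import Cfsg.Agent.Lib.Fi24.SubChecks
import Cfsg.Agent.Lib.CosetEnum.Fi23Orbit.Facts
import Cfsg.Agent.S2054

/-!
# The point stabiliser in the presented Fi24

On the suborbit of length 31671 it acts as Fi23 with a central kernel; as the multiplier of Fi23 is trivial,
it is the product of Fi23 and the group of order two generated by `l`.
-/

set_option autoImplicit false
set_option maxRecDepth 20000

namespace Cfsg.Agent.Lib.Fi24

open Cfsg.Agent.Lib.CosetEnum (allBelow allBelow_iff force_eq get32)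
open Cfsg.Agent.Lib
open scoped commutatorElement

/-- A group whose centre has finite index has finite commutator subgroup. -/
theorem finite_commutator {K : Type} [Group K] [(Subgroup.center K).FiniteIndex] : Finite (commutator K) := by
  have : Finite (commutatorSet K) := by
    let q := fun a : K => (a : K ⧸ Subgroup.center K)
    let f : (K ⧸ Subgroup.center K) × (K ⧸ Subgroup.center K) → commutatorSet K := fun ab =>
      ⟨⁅ab.1.out, ab.2.out⁆, commutator_mem_commutatorSet _ _⟩
    refine Finite.of_surjective f ?_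
    rintro ⟨_, a, b, rfl⟩
    refine ⟨(q a, q b), Subtype.ext ?_⟩
    obtain ⟨z, hz⟩ := QuotientGroup.mk_out_eq_mul (Subgroup.center K) a
    obtain ⟨w, hw⟩ := QuotientGroup.mk_out_eq_mul (Subgroup.center K) b
    show ⁅(q a).out, (q b).out⁆ = ⁅a, b⁆
    rw [show (q a).out = a * z from hz, show (q b).out = b * w from hw]
    have cz := Subgroup.mem_center_iff.1 z.2
    have cw := Subgroup.mem_center_iff.1 w.2
    simp only [commutatorElement_def]
    calc a * (z : K) * (b * w) * (a * z)⁻¹ * (b * w)⁻¹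
        = a * ((z : K) * b) * ((w : K) * (z : K)⁻¹) * a⁻¹ * (w : K)⁻¹ * b⁻¹ := by group
      _ = a * b * ((z : K) * (z : K)⁻¹) * ((w : K) * a⁻¹) * (w : K)⁻¹ * b⁻¹ := by
        rw [← cz b, ← cw (z : K)⁻¹]; group
      _ = _ := by rw [← cw a⁻¹]; group
  infer_instance

theorem small_spec {m : ℕ} (hm : m < 31671) :
    Cert.col19 small m < 306936 ∧ 0 < Cert.col19 small m ∧ Cert.col19 subPos (Cert.col19 small m) = m ∧
      Cert.tget table (Cert.col19 small m) 0 = Cert.col19 small m ∧
      ∀ g < 10, Cert.tget table (Cert.col19 small m) (g + 2) =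
        Cert.col19 small (get32 CosetEnum.Fi23x31671.table (m * 10 + g)) := by
  have h := allBelow_iff.1 smallAt_ok m hm
  simp only [smallAt, force_eq, Bool.and_eq_true, Nat.blt_eq, Nat.beq_eq, allBelow_iff] at h
  exact ⟨h.1.1.1.1, h.1.1.1.2, h.1.1.2, h.1.2, h.2⟩

/-- A point of Fi23 as a coset in Fi24. -/
noncomputable def emb (m : Fin 31671) : Fin 306936 := ⟨Cert.col19 small m.1, (small_spec m.2).1⟩

theorem emb_injective : Function.Injective emb := fun a b h => Fin.ext (by
  rw [← (small_spec a.2).2.2.1, ← (small_spec b.2).2.2.1, show Cert.col19 small a.1 = _ from congrArg Fin.val h]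
  rfl)

/-- The facts about the point stabiliser. -/
def HFacts : Prop :=
  ∃ (ρ : G →* Equiv.Perm (Fin 306936)) (σ : H →* Cfsg.Spor.Fi23),
    (∀ l : List ℕ, (∀ g ∈ l, g < 12) → ∀ i : Fin 306936,
      ((ρ (l.map xg).prod)⁻¹ i).1 = Cert.scanT table l i.1) ∧
    (∀ x, x ∈ H ↔ ρ x ⟨0, by omega⟩ = ⟨0, by omega⟩) ∧
    (∀ i, ∃ x, ρ x ⟨0, by omega⟩ = i) ∧ H.index = 306936 ∧
    Function.Surjective σ ∧ (∀ x : H, σ x = 1 ↔ x.1 = 1 ∨ x.1 = xg 0) ∧ xg 0 ≠ 1 ∧
    Nat.card H = 2 * 4089470473293004800 ∧ (∀ x : H, σ x = 1 ↔ ∀ m, ρ x.1 (emb m) = emb m) ∧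
    (∀ m m', ∃ x ∈ H, ρ x (emb m) = emb m')

theorem hFacts_of_action (hA : CosetAction) : HFacts := by
  classical
  obtain ⟨ρ, hscan, hst, htr, hidx⟩ := hA
  obtain ⟨ρ23, -, hρ23, -, htr23, hinj23, -, -, -, -, hG23, -⟩ := CosetEnum.Fi23Orbit.main
  have hgen : ∀ g < 12, ∀ i : Fin 306936, ((ρ (xg g))⁻¹ i).1 = Cert.tget table i.1 g := by
    intro g hg i
    have h := hscan [g] (by simpa using hg) i
    rw [List.map_cons, List.map_nil, List.prod_cons, List.prod_nil, mul_one] at h
    rw [h]
    exact force_eq _ _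
  let y : ℕ → Cfsg.Spor.Fi23 := fun g =>
    if g = 0 then 1 else CosetEnum.Fi23x31671.letters.phi CosetEnum.Fi23x31671.pres (g - 2)
  have hy : ∀ g < 12, g ≠ 1 → ∀ m, ρ (xg g) (emb m) = emb (ρ23 (y g) m) := by
    intro g hg hg1
    have key : ∀ m, (ρ (xg g))⁻¹ (emb m) = emb ((ρ23 (y g))⁻¹ m) := by
      intro m
      apply Fin.ext
      rw [hgen g hg]
      rcases Nat.eq_zero_or_pos g with rfl | hpos
      · show _ = Cert.col19 small _
        simp only [y, if_pos, map_one, inv_one, Equiv.Perm.one_apply]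
        exact (small_spec m.2).2.2.2.1
      · show _ = Cert.col19 small _
        rw [show y g = CosetEnum.Fi23x31671.letters.phi CosetEnum.Fi23x31671.pres (g - 2) from
          if_neg (by omega)]
        rw [hρ23 (g - 2) (show g - 2 < 10 by omega)]
        have h := (small_spec m.2).2.2.2.2 (g - 2) (by omega)
        rw [show g - 2 + 2 = g by omega] at h
        exact h
    intro m
    have h := key (ρ23 (y g) m)
    rw [Equiv.Perm.inv_def, Equiv.Perm.inv_def, Equiv.symm_apply_apply] at h
    exact ((Equiv.symm_apply_eq _).1 h).symm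
  have hex : ∀ x ∈ H, ∃ z : Cfsg.Spor.Fi23, ∀ m, ρ x (emb m) = emb (ρ23 z m) := by
    intro x hx
    induction hx using Subgroup.closure_induction with
    | mem a ha => obtain ⟨g, hg, hg1, rfl⟩ := ha; exact ⟨y g, hy g hg hg1⟩
    | one => exact ⟨1, fun m => by simp⟩
    | mul a b _ _ ha hb =>
      obtain ⟨u, hu⟩ := ha
      obtain ⟨v, hv⟩ := hb
      exact ⟨u * v, fun m => by simp [hv, hu]⟩
    | inv a _ ha =>
      obtain ⟨u, hu⟩ := ha
      refine ⟨u⁻¹, fun m => ?_⟩
      have h := hu ((ρ23 u)⁻¹ m)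
      rw [Equiv.Perm.inv_def, Equiv.apply_symm_apply] at h
      rw [map_inv, map_inv, Equiv.Perm.inv_def, Equiv.Perm.inv_def]
      exact (Equiv.symm_apply_eq _).2 h.symm
  choose σf hσf using fun x : H => hex x.1 x.2
  have huniq : ∀ u v : Cfsg.Spor.Fi23, (∀ m, emb (ρ23 u m) = emb (ρ23 v m)) → u = v := fun u v h =>
    hinj23 (Equiv.ext fun m => emb_injective (h m))
  let σ : H →* Cfsg.Spor.Fi23 := MonoidHom.mk' σf fun a b => huniq _ _ fun m => by
    rw [← hσf, Subgroup.coe_mul, map_mul, Equiv.Perm.mul_apply, hσf, hσf, map_mul, Equiv.Perm.mul_apply]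
  have hσ : ∀ x : H, ∀ m, ρ x.1 (emb m) = emb (ρ23 (σ x) m) := hσf
  have hfix : ∀ x : H, σ x = 1 ↔ ∀ m, ρ x.1 (emb m) = emb m := fun x =>
    ⟨fun h m => by rw [hσ, h, map_one, Equiv.Perm.one_apply],
      fun h => huniq _ _ fun m => by rw [← hσ, h, map_one, Equiv.Perm.one_apply]⟩
  have hmem : ∀ g < 12, g ≠ 1 → xg g ∈ H := fun g hg hg1 => Subgroup.subset_closure ⟨g, hg, hg1, rfl⟩
  have hσgen : ∀ g (hg : g < 12) (hg1 : g ≠ 1), σ ⟨xg g, hmem g hg hg1⟩ = y g := fun g hg hg1 =>
    huniq _ _ fun m => by rw [← hσ, hy g hg hg1]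
  have hσsurj : Function.Surjective σ := by
    rw [← MonoidHom.range_eq_top, eq_top_iff,
      ← CosetEnum.Letters.gen_closure (L := CosetEnum.Fi23x31671.letters) CosetEnum.Fi23x31671.table_ok.col,
      Subgroup.closure_le]
    rintro _ ⟨g, hg, rfl⟩
    have hg' : g < 10 := hg
    refine ⟨⟨xg (g + 2), hmem _ (by omega) (by omega)⟩, ?_⟩
    rw [hσgen _ (by omega) (by omega)]
    exact if_neg (by omega)
  -- `l` is central in `H`
  have hl : ∀ x ∈ H, x * xg 0 = xg 0 * x := by
    intro x hx
    induction hx using Subgroup.closure_induction with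
    | mem a ha =>
      obtain ⟨g, hg, hg1, rfl⟩ := ha
      rcases eq_or_ne g 0 with rfl | hg0
      · rfl
      have h := xg_pow hg (show 0 < 12 by omega)
      rw [if_neg hg0, (show ∀ g < 12, g ≠ 0 → g ≠ 1 → joined g 0 = false by decide +kernel) g hg hg0 hg1,
        if_neg Bool.false_ne_true, pow_two] at h
      have h' := mul_eq_one_iff_eq_inv.1 h
      rwa [mul_inv_rev, xg_inv hg, xg_inv (show 0 < 12 by omega)] at h'
    | one => simp
    | mul a b _ _ ha hb => rw [mul_assoc, hb, ← mul_assoc, ha, mul_assoc]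
    | inv a _ ha => exact (Commute.inv_left (show Commute a (xg 0) from ha)).eq
  -- each generator is conjugate to `l` by a word whose coset lies in the small suborbit
  have hconjw : ∀ g < 12, g ≠ 0 → g ≠ 1 → (∀ x ∈ conjWords.getD g [], x < 12) ∧
      (∃ m : Fin 31671, Cert.scanT table (conjWords.getD g []).reverse 0 = Cert.col19 small m.1) ∧
      xg g = ((conjWords.getD g []).map xg).prod * xg 0 * (((conjWords.getD g []).map xg).prod)⁻¹ := by
    have step : ∀ a b : ℕ, a < 12 → b < 12 → a ≠ b → joined a b = true →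
        xg b = xg a * xg b * xg a * (xg a * xg b)⁻¹ := by
      intro a b ha hb hne hj
      have h := xg_pow ha hb
      rw [if_neg hne, if_pos hj, pow_succ, pow_two] at h
      rw [mul_inv_rev, xg_inv ha, xg_inv hb]
      have h2 := mul_eq_one_iff_eq_inv.1 h
      rw [mul_inv_rev, xg_inv ha, xg_inv hb] at h2
      calc xg b = xg a * xg b * (xg a * xg b) * xg a := by rw [h2, mul_assoc, xg_sq ha, mul_one]
        _ = _ := by simp [mul_assoc]
    intro g hg hg0 hg1
    refine ⟨(show ∀ g < 12, ∀ x ∈ conjWords.getD g [], x < 12 by decide +kernel) g hg, ?_, ?_⟩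
    · have hp := (show ∀ g < 12, g ≠ 0 → g ≠ 1 →
          Cert.col19 subPos (Cert.scanT table (conjWords.getD g []).reverse 0) < 31671 ∧
          Cert.col19 small (Cert.col19 subPos (Cert.scanT table (conjWords.getD g []).reverse 0)) =
            Cert.scanT table (conjWords.getD g []).reverse 0 by decide +kernel) g hg hg0 hg1
      exact ⟨⟨_, hp.1⟩, hp.2.symm⟩
    · have main : ∀ w : List ℕ, ∀ a b : ℕ, a < 12 → b < 12 → a ≠ b → joined a b = true →
          xg a = (w.map xg).prod * xg 0 * ((w.map xg).prod)⁻¹ →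
          xg b = (([a, b] ++ w).map xg).prod * xg 0 * ((([a, b] ++ w).map xg).prod)⁻¹ := by
        intro w a b ha hb hne hj e
        rw [step a b ha hb hne hj]
        simp only [List.cons_append, List.nil_append, List.map_cons, List.prod_cons]
        rw [e]; group
      have w1 : xg 1 = (([0, 1] : List ℕ).map xg).prod * xg 0 * ((([0, 1] : List ℕ).map xg).prod)⁻¹ :=
        main [] 0 1 (by omega) (by omega) (by omega) rfl (by simp)
      have w2 := main _ 1 2 (by omega) (by omega) (by omega) rfl w1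
      have w3 := main _ 2 3 (by omega) (by omega) (by omega) rfl w2
      have w4 := main _ 3 4 (by omega) (by omega) (by omega) rfl w3
      have w5 := main _ 4 5 (by omega) (by omega) (by omega) rfl w4
      have w6 := main _ 5 6 (by omega) (by omega) (by omega) rfl w5
      have w7 := main _ 6 7 (by omega) (by omega) (by omega) rfl w6
      have w8 := main _ 7 8 (by omega) (by omega) (by omega) rfl w7
      have w9 := main _ 8 9 (by omega) (by omega) (by omega) rfl w8
      have w10 := main _ 5 10 (by omega) (by omega) (by omega) rfl w5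
      have w11 := main _ 10 11 (by omega) (by omega) (by omega) rfl w10
      interval_cases g <;> first | omega | assumption
  -- the kernel is central
  have hkerc : σ.ker ≤ Subgroup.center H := by
    intro n hn
    have hn' := (hfix n).1 hn
    have hcg : ∀ g < 12, g ≠ 1 → n.1 * xg g = xg g * n.1 := by
      intro g hg hg1
      rcases eq_or_ne g 0 with rfl | hg0
      · exact hl n.1 n.2
      obtain ⟨hw, ⟨m, hm⟩, he⟩ := hconjw g hg hg0 hg1
      generalize conjWords.getD g [] = w at hw hm he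
      have hu : ρ (w.map xg).prod ⟨0, by omega⟩ = emb m := by
        have h := hscan w.reverse (fun x hx => hw x (List.mem_reverse.1 hx)) ⟨0, by omega⟩
        rw [prod_reverse hw, map_inv, inv_inv, hm] at h
        exact Fin.ext h
      generalize (w.map xg).prod = u at he hu
      have hin : u⁻¹ * n.1 * u ∈ H := by
        rw [hst, map_mul, map_mul, Equiv.Perm.mul_apply, Equiv.Perm.mul_apply, hu, hn', map_inv, ← hu,
          Equiv.Perm.inv_def, Equiv.symm_apply_apply]
      have hc := hl _ hin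
      rw [he]
      calc n.1 * (u * xg 0 * u⁻¹) = u * (u⁻¹ * n.1 * u * xg 0) * u⁻¹ := by group
        _ = u * (xg 0 * (u⁻¹ * n.1 * u)) * u⁻¹ := by rw [hc]
        _ = _ := by group
    rw [Subgroup.mem_center_iff]
    intro z
    apply Subtype.ext
    show z.1 * n.1 = n.1 * z.1
    obtain ⟨z, hz⟩ := z
    show z * n.1 = n.1 * z
    induction hz using Subgroup.closure_induction with
    | mem a ha => obtain ⟨g, hg, hg1, rfl⟩ := ha; exact (hcg g hg hg1).symm
    | one => simp
    | mul a b _ _ ha hb => rw [mul_assoc, hb, ← mul_assoc, ha, mul_assoc]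
    | inv a _ ha => exact (Commute.inv_left (show Commute a n.1 from ha)).eq
  -- finiteness of `H`
  have : Finite Cfsg.Spor.Fi23 := Nat.finite_of_card_ne_zero (by
    intro h
    have := hG23.symm.trans h
    omega)
  have : Subgroup.FiniteIndex (Subgroup.center H) := by
    have : Finite (H ⧸ σ.ker) := Finite.of_equiv _ (QuotientGroup.quotientKerEquivRange σ).symm.toEquiv
    have : σ.ker.FiniteIndex := Subgroup.finiteIndex_of_finite_quotient
    exact Subgroup.finiteIndex_of_le hkerc
  have : Finite (commutator H) := finite_commutator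
  have hab : ∀ (A : Type) [CommGroup A] (χ : H →* A), χ ⟨xg 0, hmem 0 (by omega) (by omega)⟩ = 1 → χ = 1 := by
    intro A _ χ h0
    have hgadj : ∀ a b (ha : a < 12) (hb : b < 12) (ha1 : a ≠ 1) (hb1 : b ≠ 1), a ≠ b → joined a b = true →
        χ ⟨xg a, hmem a ha ha1⟩ = χ ⟨xg b, hmem b hb hb1⟩ := by
      intro a b ha hb ha1 hb1 hne hj
      have h := xg_pow ha hb
      rw [if_neg hne, if_pos hj] at h
      have h' : χ ((⟨xg a, hmem a ha ha1⟩ * ⟨xg b, hmem b hb hb1⟩) ^ 3 : H) = 1 := by
        rw [show ((⟨xg a, hmem a ha ha1⟩ * ⟨xg b, hmem b hb hb1⟩) ^ 3 : H) = 1 from Subtype.ext h, map_one]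
      have hsq : ∀ c (hc : c < 12) (hc1 : c ≠ 1), χ ⟨xg c, hmem c hc hc1⟩ ^ 2 = 1 := by
        intro c hc hc1
        rw [← map_pow, show ((⟨xg c, hmem c hc hc1⟩ : H) ^ 2) = 1 from Subtype.ext (by
          rw [Subgroup.coe_pow, pow_two]; exact xg_sq hc), map_one]
      rw [map_pow, map_mul, mul_pow, pow_succ, hsq a ha ha1, pow_succ, hsq b hb hb1, one_mul, one_mul] at h'
      have h2 := hsq b hb hb1
      rw [pow_two] at h2
      exact (eq_inv_of_mul_eq_one_left h').trans (eq_inv_of_mul_eq_one_left h2).symm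
    let c : ℕ → A := fun g => if hg : g < 12 ∧ g ≠ 1 then χ ⟨xg g, hmem g hg.1 hg.2⟩ else 1
    have hc : ∀ a b, a < 12 → b < 12 → a ≠ 1 → b ≠ 1 → a ≠ b → joined a b = true → c a = c b := by
      intro a b ha hb ha1 hb1 hne hj
      simp only [c, dif_pos (show a < 12 ∧ a ≠ 1 from ⟨ha, ha1⟩), dif_pos (show b < 12 ∧ b ≠ 1 from ⟨hb, hb1⟩)]
      exact hgadj a b ha hb ha1 hb1 hne hj
    have e : ∀ g < 12, g ≠ 0 → g ≠ 1 → c g = c 2 := by
      have e3 := hc 2 3 (by omega) (by omega) (by omega) (by omega) (by omega) rfl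
      have e4 := hc 3 4 (by omega) (by omega) (by omega) (by omega) (by omega) rfl
      have e5 := hc 4 5 (by omega) (by omega) (by omega) (by omega) (by omega) rfl
      have e6 := hc 5 6 (by omega) (by omega) (by omega) (by omega) (by omega) rfl
      have e7 := hc 6 7 (by omega) (by omega) (by omega) (by omega) (by omega) rfl
      have e8 := hc 7 8 (by omega) (by omega) (by omega) (by omega) (by omega) rfl
      have e9 := hc 8 9 (by omega) (by omega) (by omega) (by omega) (by omega) rfl
      have e10 := hc 5 10 (by omega) (by omega) (by omega) (by omega) (by omega) rfl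
      have e11 := hc 10 11 (by omega) (by omega) (by omega) (by omega) (by omega) rfl
      intro g hg hg0 hg1
      interval_cases g <;> first | omega | rfl | simp only [← e11, ← e10, ← e9, ← e8, ← e7, ← e6, ← e5, ← e4, ← e3]
    have hc2 : c 2 = 1 := by
      have h9 := extra_rels.1
      let L : List H := [⟨xg 10, hmem 10 (by omega) (by omega)⟩, ⟨xg 7, hmem 7 (by omega) (by omega)⟩,
        ⟨xg 6, hmem 6 (by omega) (by omega)⟩, ⟨xg 5, hmem 5 (by omega) (by omega)⟩,
        ⟨xg 4, hmem 4 (by omega) (by omega)⟩, ⟨xg 3, hmem 3 (by omega) (by omega)⟩,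
        ⟨xg 2, hmem 2 (by omega) (by omega)⟩]
      have hH' : ((⟨xg 0, hmem 0 (by omega) (by omega)⟩ : H) * L.prod ^ 9) = 1 := Subtype.ext (by
        simpa [L, cox, mul_assoc] using h9)
      have h1 := congrArg χ hH'
      rw [map_mul, h0, one_mul, map_pow, map_one] at h1
      have hL : χ L.prod = c 2 ^ 7 := by
        simp only [L, List.prod_cons, List.prod_nil, map_mul, map_one, mul_one]
        have e' : ∀ g (hg : g < 12) (hg0 : g ≠ 0) (hg1 : g ≠ 1), χ ⟨xg g, hmem g hg hg1⟩ = c 2 := by
          intro g hg hg0 hg1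
          rw [← e g hg hg0 hg1]; simp only [c, dif_pos (show g < 12 ∧ g ≠ 1 from ⟨hg, hg1⟩)]
        rw [e' 10 (by omega) (by omega) (by omega), e' 7 (by omega) (by omega) (by omega),
          e' 6 (by omega) (by omega) (by omega), e' 5 (by omega) (by omega) (by omega),
          e' 4 (by omega) (by omega) (by omega), e' 3 (by omega) (by omega) (by omega),
          e' 2 (by omega) (by omega) (by omega)]
        simp [pow_succ, mul_assoc]
      rw [hL, ← pow_mul] at h1
      have hsq : c 2 ^ 2 = 1 := by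
        simp only [c, dif_pos (show (2 : ℕ) < 12 ∧ (2 : ℕ) ≠ 1 by omega)]
        rw [← map_pow, show ((⟨xg 2, hmem 2 (by omega) (by omega)⟩ : H) ^ 2) = 1 from Subtype.ext (by
          rw [Subgroup.coe_pow, pow_two]; exact xg_sq (by omega)), map_one]
      rwa [show (7 * 9 : ℕ) = 2 * 31 + 1 by rfl, pow_succ, pow_mul, hsq, one_pow, one_mul] at h1
    refine MonoidHom.ext fun ⟨x, hx⟩ => ?_
    rw [MonoidHom.one_apply]
    induction hx using Subgroup.closure_induction with
    | mem a ha =>
      obtain ⟨g, hg, hg1, rfl⟩ := ha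
      rcases eq_or_ne g 0 with rfl | hg0
      · exact h0
      · have h := e g hg hg0 hg1
        rw [hc2] at h
        simpa only [c, dif_pos (show g < 12 ∧ g ≠ 1 from ⟨hg, hg1⟩)] using h
    | one => exact map_one χ
    | mul a b ha hb iha ihb =>
      show χ (⟨a, ha⟩ * ⟨b, hb⟩) = 1
      rw [map_mul, iha, ihb, one_mul]
    | inv a ha iha =>
      show χ (⟨a, ha⟩⁻¹) = 1
      rw [map_inv, iha, inv_one]
  let lH : H := ⟨xg 0, hmem 0 (by omega) (by omega)⟩
  have hl2 : lH ^ 2 = 1 := Subtype.ext (by rw [Subgroup.coe_pow, pow_two]; exact xg_sq (by omega))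
  have hfinH : Finite H := by
    have hall : ∀ x : Abelianization H, x ∈ Subgroup.zpowers (Abelianization.of lH) := by
      intro x
      let K := Subgroup.zpowers (Abelianization.of lH)
      have h := hab (Abelianization H ⧸ K) ((QuotientGroup.mk' K).comp Abelianization.of)
        ((QuotientGroup.eq_one_iff _).2 (Subgroup.mem_zpowers _))
      obtain ⟨z, rfl⟩ := QuotientGroup.mk'_surjective (commutator H) x
      exact (QuotientGroup.eq_one_iff _).1 (DFunLike.congr_fun h z)
    have : Finite (Subgroup.zpowers (Abelianization.of lH)) :=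
      IsOfFinOrder.finite_zpowers (isOfFinOrder_iff_pow_eq_one.2
        ⟨2, by omega, by rw [← map_pow, hl2, map_one]⟩)
    have : Finite (Abelianization H) := Finite.of_surjective
      (fun z : Subgroup.zpowers (Abelianization.of lH) => z.1) fun x => ⟨⟨x, hall x⟩, rfl⟩
    have : Finite (H ⧸ commutator H) := this
    exact Finite.of_subgroup_quotient (commutator H)
  -- the quotient by `l` is a stem extension of Fi23
  have hσl : σ lH = 1 := by rw [hσgen 0 (by omega) (by omega)]; exact if_pos rfl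
  let L0 : Subgroup H := Subgroup.zpowers lH
  have : L0.Normal := ⟨fun n hn u => by
    have hc : lH ∈ Subgroup.center H := hkerc hσl
    have hn' : n ∈ Subgroup.center H := Subgroup.zpowers_le.2 hc hn
    rwa [Subgroup.mem_center_iff.1 hn' u, mul_inv_cancel_right]⟩
  let τ : H ⧸ L0 →* Cfsg.Spor.Fi23 := QuotientGroup.lift L0 σ (Subgroup.zpowers_le.2 hσl)
  have hperf : commutator (H ⧸ L0) = ⊤ := by
    rw [eq_top_iff]
    intro x _
    obtain ⟨z, rfl⟩ := QuotientGroup.mk'_surjective L0 x
    have h := hab (Abelianization (H ⧸ L0)) (Abelianization.of.comp (QuotientGroup.mk' L0))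
      (by rw [MonoidHom.comp_apply, show QuotientGroup.mk' L0 lH = 1 from
        (QuotientGroup.eq_one_iff _).2 (Subgroup.mem_zpowers _), map_one])
    exact (QuotientGroup.eq_one_iff _).1 (DFunLike.congr_fun h z)
  have hstem : Cfsg.IsStemExtension τ := by
    refine ⟨fun v => ?_, ?_, by rw [hperf]; exact le_top⟩
    · obtain ⟨z, rfl⟩ := hσsurj v
      exact ⟨QuotientGroup.mk' L0 z, rfl⟩
    · intro q hq
      obtain ⟨z, rfl⟩ := QuotientGroup.mk'_surjective L0 q
      rw [Subgroup.mem_center_iff]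
      intro w
      obtain ⟨w, rfl⟩ := QuotientGroup.mk'_surjective L0 w
      rw [← map_mul, ← map_mul, Subgroup.mem_center_iff.1 (hkerc (show z ∈ σ.ker from hq)) w]
  obtain ⟨π, hπ⟩ := Cfsg.Agent.S2054.result.2 (H ⧸ L0) τ hstem
  have hl1 : xg 0 ≠ 1 := by
    intro h
    have h' := hscan [0] (by simp) ⟨1, by omega⟩
    rw [show ([0].map xg).prod = 1 by simp [h], map_one, inv_one, Equiv.Perm.one_apply] at h'
    exact absurd h'.symm ((show Cert.scanT table [0] 1 ≠ 1 by decide +kernel))
  have hker : ∀ x : H, σ x = 1 ↔ x.1 = 1 ∨ x.1 = xg 0 := by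
    intro x
    constructor
    · intro hx
      have hq : QuotientGroup.mk' L0 x = 1 := by
        obtain ⟨z, hz⟩ := hπ ⟨QuotientGroup.mk' L0 x, hx⟩
        have : z = 1 := Subsingleton.elim _ _
        rw [this, map_one] at hz
        exact (congrArg Subtype.val hz).symm
      obtain ⟨k, hk⟩ := Subgroup.mem_zpowers_iff.1 ((QuotientGroup.eq_one_iff x).1 hq)
      rcases Int.even_or_odd k with ⟨j, rfl⟩ | ⟨j, rfl⟩
      · left
        rw [← hk, ← two_mul, zpow_mul, zpow_two, ← pow_two, hl2, one_zpow]; rfl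
      · right
        rw [← hk, zpow_add, zpow_mul, zpow_two, ← pow_two, hl2, one_zpow, one_mul, zpow_one]
    · rintro (h | h)
      · rw [show x = 1 from Subtype.ext h, map_one]
      · rw [show x = lH from Subtype.ext h, hσl]
  have hcard : Nat.card H = 2 * 4089470473293004800 := by
    have h2 : Nat.card σ.ker = 2 := by
      refine Nat.card_eq_two_iff.2 ⟨1, ⟨lH, hσl⟩, fun h => hl1 (congrArg (fun z : σ.ker => z.1.1) h).symm, ?_⟩
      refine Set.eq_univ_of_forall fun z => ?_
      rcases (hker z.1).1 z.2 with h | h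
      · exact Or.inl (Subtype.ext (Subtype.ext h))
      · exact Or.inr (Subtype.ext (Subtype.ext h))
    have h := σ.ker.card_mul_index
    rw [h2, Subgroup.index_ker, MonoidHom.range_eq_top.2 hσsurj, Subgroup.card_top] at h
    rw [← h]
    exact congrArg _ hG23
  refine ⟨ρ, σ, hscan, hst, htr, hidx, hσsurj, hker, hl1, hcard, hfix, fun m m' => ?_⟩
  obtain ⟨a, ha⟩ := htr23 m
  obtain ⟨b, hb⟩ := htr23 m'
  obtain ⟨x, hx⟩ := hσsurj (b * a⁻¹)
  refine ⟨x.1, x.2, ?_⟩
  rw [hσ, hx, map_mul, map_inv, Equiv.Perm.mul_apply, ← ha, Equiv.Perm.inv_def, Equiv.symm_apply_apply, hb]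

end Cfsg.Agent.Lib.Fi24
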