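import Cfsg.Agent.Lib.Fi24.Action
import Cfsg.Agent.Lib.Fi24.Data.Small

/-! The relators of the presented Fi24 as words in the letters `l k a b c d e f g j h i` (0-11). -/

set_option autoImplicit false
set_option maxRecDepth 20000

namespace Cfsg.Agent.Lib.Fi24

open Cfsg.Agent.Lib.CosetEnum (PTree allBelow)

/-- The relators. -/
def rels : List (List ℕ) :=
  ((List.range 12).flatMap fun g => (List.range g).map fun k =>
    if Nat.testBit adjM (12 * g + k) then [g, k, g, k, g, k] else [g, k, g, k]) ++
  [0 :: (List.replicate 9 cox).flatten, (List.replicate 17 spider).flatten]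

/-- The rotations used by the certificate. -/
def rots : List (List ℕ) :=
  rotSpecs.map fun s =>
    (if s.2.1 then (rels.getD s.1 []).reverse else rels.getD s.1 []).rotate' s.2.2

theorem rotTree_ok : (allBelow 288 fun k =>
    Nat.beq (rotTree.lookup (fun n _ => n) k) (Cert.code (rots.getD k []))) = true := by
  decide +kernel

theorem rots_lt : (rots.all fun l => l.all fun g => Nat.blt g 12) = true := by decide +kernel

/-- The letters that lie in the subgroup: all but `k`. -/
def inH (g : ℕ) : Bool := !(Nat.beq g 1)

end Cfsg.Agent.Lib.Fi24
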